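import Groth.Agent.Lib.Ample.RelAmple
import Groth.Agent.Lib.AlgSpMor.QuasiAffineDescent
import Mathlib.AlgebraicGeometry.Morphisms.Flat
import Mathlib.LinearAlgebra.TensorProduct.Pi
import Mathlib.LinearAlgebra.TensorProduct.RightExactness
import Mathlib.Algebra.Category.Ring.Constructions

/-!
Descent of ampleness along a faithfully flat affine base change.
-/

noncomputable section

universe u

open CategoryTheory CategoryTheory.Limits AlgebraicGeometry Opposite TopologicalSpace TensorProduct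
open Groth.Agent.Lib Groth.Agent.Lib.TensorMod Groth.Agent.Lib.TensorMod.Dual Groth.Agent.Lib.TensorMod.Gen
open Groth.Agent.Lib.TensorMod.LocIso Groth.Agent.Lib.TensorMod.Pullback Groth.Agent.Lib.Ample Groth.Agent.Lib.Ample.GenLocus
open Groth.Agent.Lib.Ample.Pow Groth.Agent.Lib.Ample.Pullback Groth.Agent.Lib.Ample.RelAmple

namespace Groth.Agent.H52.FDesc.AmpleDescent

variable {X Y Y' : Scheme.{u}} [IsAffine Y] [IsAffine Y'] (f : X ⟶ Y) (g : Y' ⟶ Y)

/-- Functions on `U` as an algebra over the functions of the base. -/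
abbrev algOn (U : X.Opens) : Algebra Γ(Y, ⊤) Γ(X, U) := (f.appLE ⊤ U le_top).hom.toAlgebra

/-- Functions on the affine cover as an algebra. -/
abbrev algTop : Algebra Γ(Y, ⊤) Γ(Y', ⊤) := g.appTop.hom.toAlgebra

theorem exists_sectionsIso [Flat g] {U : X.Opens} (hc : IsCompact (U : Set X))
    (hq : IsQuasiSeparated (U : Set X)) :
    letI := algOn f U; letI := algTop g
    ∃ ψ : Γ(Y', ⊤) ⊗[Γ(Y, ⊤)] Γ(X, U) →+* Γ(pullback f g, pullback.fst f g ⁻¹ᵁ U), Function.Bijective ψ ∧
      ∀ b a, ψ (b ⊗ₜ a) = (pullback.snd f g).appLE ⊤ _ le_top b * (pullback.fst f g).app U a := by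
  let := algOn f U
  let := algTop g
  have := isIso_pushoutSection_of_isQuasiSeparated_of_flat_right (IsPullback.of_hasPullback f g)
    (US := ⊤) (UT := ⊤) (UX := U) (UY := pullback.fst f g ⁻¹ᵁ U) le_top le_top (by simp) (isAffineOpen_top Y)
    (isAffineOpen_top Y') hc hq
  have sq := ((isIso_pushoutSection_iff ..).1 this).flip
  have hg : g.appLE ⊤ ⊤ le_top = g.appTop := g.app_eq_appLE.symm
  rw [hg] at sq
  have sq' : IsPushout (CommRingCat.ofHom (algebraMap Γ(Y, ⊤) Γ(Y', ⊤)))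
      (CommRingCat.ofHom (algebraMap Γ(Y, ⊤) Γ(X, U)))
      ((pullback.snd f g).appLE ⊤ (pullback.fst f g ⁻¹ᵁ U) le_top)
      ((pullback.fst f g).appLE U (pullback.fst f g ⁻¹ᵁ U) le_rfl) := sq
  let h₀ := CommRingCat.isPushout_tensorProduct Γ(Y, ⊤) Γ(Y', ⊤) Γ(X, U)
  let e := h₀.isoPushout ≪≫ sq'.isoPushout.symm
  refine ⟨e.hom.hom, ConcreteCategory.bijective_of_isIso e.hom, fun b a => ?_⟩
  have h1 : CommRingCat.ofHom Algebra.TensorProduct.includeLeftRingHom ≫ e.hom =
      (pullback.snd f g).appLE ⊤ (pullback.fst f g ⁻¹ᵁ U) le_top := by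
    simp only [e, Iso.trans_hom, Iso.symm_hom, IsPushout.inl_isoPushout_hom_assoc, IsPushout.inl_isoPushout_inv]
  have h2 : CommRingCat.ofHom (Algebra.TensorProduct.includeRight (R := Γ(Y, ⊤)) (A := Γ(Y', ⊤))).toRingHom ≫
      e.hom = (pullback.fst f g).appLE U (pullback.fst f g ⁻¹ᵁ U) le_rfl := by
    simp only [e, Iso.trans_hom, Iso.symm_hom, IsPushout.inr_isoPushout_hom_assoc, IsPushout.inr_isoPushout_inv]
  rw [show b ⊗ₜ[Γ(Y, ⊤)] a = b ⊗ₜ[Γ(Y, ⊤)] (1 : Γ(X, U)) * (1 : Γ(Y', ⊤)) ⊗ₜ[Γ(Y, ⊤)] a by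
    rw [Algebra.TensorProduct.tmul_mul_tmul, mul_one, one_mul], map_mul, ← h1, Scheme.Hom.app_eq_appLE,
    ← h2]
  rfl

/-- A section of the pullback generating at a point gives a section downstairs generating at the image. -/
theorem exists_sec_mem [Flat g] [CompactSpace X] [QuasiSeparatedSpace X] {M : X.Modules}
    (hM : PicF.IsInvertible M) (s' : Coh.structureModule (pullback f g) ⟶ (pb (pullback.fst f g)).obj M)
    (x' : ↥(pullback f g)) (hx' : x' ∈ CohB1.genLocus _ s') :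
    ∃ s : Coh.structureModule X ⟶ M, pullback.fst f g x' ∈ CohB1.genLocus M s := by
  classical
  let π := pullback.fst f g
  obtain ⟨N, V, e, hV, he, hcov⟩ := Extend.exists_affine_frames hM
  choose c hc using fun i j =>
    exists_coord ((he i).res (inf_le_left : V i ⊓ V j ≤ V i)) (rs M inf_le_right (e j))
  have he' : ∀ i, IsGen ((pb π).obj M) (π ⁻¹ᵁ V i) (unitSec π M (e i)) := fun i => isGen_unitSec π (he i)
  choose a' ha' using fun i => exists_coord (he' i) (sv s' (π ⁻¹ᵁ V i))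
  letI := algTop g
  letI : ∀ U : X.Opens, Algebra Γ(Y, ⊤) Γ(X, U) := algOn f
  choose ψ hψ hψt using fun i => exists_sectionsIso f g (hV i).isCompact (hV i).isQuasiSeparated
  choose ψ₂ hψ₂ hψ₂t using fun p : Fin N × Fin N => exists_sectionsIso f g (U := V p.1 ⊓ V p.2)
    (QuasiSeparatedSpace.inter_isCompact _ _ (V p.1).isOpen (hV p.1).isCompact (V p.2).isOpen (hV p.2).isCompact)
    (isQuasiSeparated_univ.of_subset (Set.subset_univ _))
  have halg : ∀ {U W : X.Opens} (h : W ≤ U) (b : Γ(Y, ⊤)) (a : Γ(X, U)), rf h (b • a) = b • rf h a := by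
    intro U W h b a
    show rf h (f.appLE ⊤ U le_top b * a) = f.appLE ⊤ W le_top b * rf h a
    rw [rf, map_mul]
    congr 1
    exact congrArg (fun m => m.hom b) (f.appLE_map le_top (homOfLE h).op)
  let d : (∀ i, Γ(X, V i)) →ₗ[Γ(Y, ⊤)] ∀ p : Fin N × Fin N, Γ(X, V p.1 ⊓ V p.2) :=
    { toFun := fun a p => rf inf_le_left (a p.1) - c p.1 p.2 * rf inf_le_right (a p.2)
      map_add' := fun a b => funext fun p => by
        simp only [Pi.add_apply, rf, map_add]; ring
      map_smul' := fun r a => funext fun p => by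
        simp only [Pi.smul_apply, RingHom.id_apply, halg, smul_sub, mul_smul_comm] }
  let P := TensorProduct.piRight Γ(Y, ⊤) Γ(Y', ⊤) Γ(Y', ⊤) (fun i => Γ(X, V i))
  let P₂ := TensorProduct.piRight Γ(Y, ⊤) Γ(Y', ⊤) Γ(Y', ⊤) (fun p : Fin N × Fin N => Γ(X, V p.1 ⊓ V p.2))
  have hd : ∀ (z : Γ(Y', ⊤) ⊗[Γ(Y, ⊤)] ∀ i, Γ(X, V i)) (p : Fin N × Fin N),
      ψ₂ p (P₂ (d.lTensor Γ(Y', ⊤) z) p) =
        rf ((Opens.map π.base).monotone inf_le_left) (ψ p.1 (P z p.1)) -
          π.app (V p.1 ⊓ V p.2) (c p.1 p.2) * rf ((Opens.map π.base).monotone inf_le_right) (ψ p.2 (P z p.2)) := by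
    intro z p
    induction z using TensorProduct.induction_on with
    | zero => simp [rf]
    | tmul b a =>
      have hres : ∀ (i : Fin N) (h : V p.1 ⊓ V p.2 ≤ V i),
          rf ((Opens.map π.base).monotone h) (ψ i (b ⊗ₜ[Γ(Y, ⊤)] a i)) =
            (pullback.snd f g).appLE ⊤ _ le_top b * π.app (V p.1 ⊓ V p.2) (rf h (a i)) := by
        intro i h
        rw [hψt, rf, map_mul]
        congr 1
        · exact congrArg (fun m : Γ(Y', ⊤) ⟶ Γ(pullback f g, π ⁻¹ᵁ (V p.1 ⊓ V p.2)) => m.hom b)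
            ((pullback.snd f g).appLE_map le_top (homOfLE ((Opens.map π.base).monotone h)).op)
        · exact (congrArg (fun m => m.hom (a i)) (π.naturality (homOfLE h).op)).symm
      show ψ₂ p (b ⊗ₜ[Γ(Y, ⊤)] d a p) = rf _ (ψ p.1 (b ⊗ₜ[Γ(Y, ⊤)] a p.1)) -
        _ * rf _ (ψ p.2 (b ⊗ₜ[Γ(Y, ⊤)] a p.2))
      rw [hψ₂t, hres, hres]
      show _ * π.app _ (rf inf_le_left (a p.1) - c p.1 p.2 * rf inf_le_right (a p.2)) = _
      rw [map_sub, map_mul]
      ring
      all_goals first | exact inf_le_left | exact inf_le_right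
    | add z w hz hw =>
      simp only [map_add, Pi.add_apply, hz, hw, rf]
      ring
  choose zc hzc using fun i => (hψ i).2 (a' i)
  let z := P.symm zc
  have hz : ∀ i, ψ i (P z i) = a' i := fun i => by
    rw [show P z = zc from P.apply_symm_apply zc, hzc]
  have hzero : d.lTensor Γ(Y', ⊤) z = 0 := by
    refine P₂.injective ?_
    rw [map_zero]
    funext p
    refine (hψ₂ p).1 ?_
    rw [hd, hz, hz, Pi.zero_apply, map_zero, sub_eq_zero]
    have hg := (he' p.1).res ((Opens.map π.base).monotone (inf_le_left : V p.1 ⊓ V p.2 ≤ V p.1))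
    refine (hg _ le_rfl).1 ?_
    simp only [rs_self]
    have h1 := congrArg (rs ((pb π).obj M) ((Opens.map π.base).monotone (inf_le_left : V p.1 ⊓ V p.2 ≤ V p.1))) (ha' p.1)
    have h2 := congrArg (rs ((pb π).obj M) ((Opens.map π.base).monotone (inf_le_right : V p.1 ⊓ V p.2 ≤ V p.2))) (ha' p.2)
    rw [rs_sv, rs_smul] at h1 h2
    rw [← h1, h2, unitSec_rs, unitSec_rs, hc p.1 p.2, unitSec_smul, smul_smul, mul_comm]
    all_goals exact inf_le_right
  have hex : Function.Exact ((LinearMap.ker d).subtype.lTensor Γ(Y', ⊤)) (d.lTensor Γ(Y', ⊤)) := by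
    have hfl : g.appTop.hom.Flat := by
      rw [Scheme.Hom.appTop, Scheme.Hom.app_eq_appLE]
      exact g.flat_appLE (isAffineOpen_top Y) (isAffineOpen_top Y') _
    have : Module.Flat Γ(Y, ⊤) Γ(Y', ⊤) := hfl
    exact Module.Flat.lTensor_exact _ (LinearMap.exact_subtype_ker_map d)
  obtain ⟨w, hw⟩ := (hex z).mp hzero
  obtain ⟨i, hxi⟩ : ∃ i, π x' ∈ V i := Opens.mem_iSup.1 (hcov.ge trivial)
  have hu : IsUnit ((pullback f g).presheaf.germ (π ⁻¹ᵁ V i) x' hxi (a' i)) :=
    (Scheme.mem_basicOpen _ _ x' hxi).1 ((genLocus_inf_eq (he' i) s' (ha' i)).le ⟨hx', hxi⟩)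
  obtain ⟨k, hk⟩ : ∃ k : LinearMap.ker d, IsUnit (X.presheaf.germ (V i) (π x') hxi (k.1 i)) := by
    by_contra hcon
    push Not at hcon
    suffices hnu : ∀ w, (pullback f g).presheaf.germ (π ⁻¹ᵁ V i) x' hxi
        (ψ i (P ((LinearMap.ker d).subtype.lTensor Γ(Y', ⊤) w) i)) ∈ nonunits ((pullback f g).presheaf.stalk x') by
      exact hnu w (by rw [hw, hz]; exact hu)
    intro w
    induction w using TensorProduct.induction_on with
    | zero => simp only [map_zero, Pi.zero_apply]; exact zero_mem_nonunits.2 zero_ne_one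
    | tmul b k =>
      show (pullback f g).presheaf.germ (π ⁻¹ᵁ V i) x' hxi (ψ i (b ⊗ₜ[Γ(Y, ⊤)] k.1 i)) ∈ nonunits _
      rw [hψt, map_mul]
      intro hu2
      have h3 := isUnit_of_mul_isUnit_right hu2
      rw [← Scheme.Hom.germ_stalkMap_apply π (V i) x' hxi] at h3
      exact hcon k (isUnit_of_map_unit _ _ h3)
    | add u v hu' hv' =>
      simp only [map_add, Pi.add_apply]
      exact IsLocalRing.nonunits_add hu' hv'
  let τ : ∀ i, Γ(M, V i) := fun i => k.1 i • e i
  have hτ : TopCat.Presheaf.IsCompatible M.presheaf V τ := fun i j => by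
    change rs M (inf_le_left : V i ⊓ V j ≤ V i) (τ i) = rs M (inf_le_right : V i ⊓ V j ≤ V j) (τ j)
    have h1 : rf (inf_le_left : V i ⊓ V j ≤ V i) (k.1 i) - c i j * rf inf_le_right (k.1 j) = 0 :=
      congrFun (show d k.1 = 0 from k.2) (i, j)
    simp only [τ]
    rw [rs_smul, rs_smul, sub_eq_zero.mp h1, hc i j, smul_smul, mul_comm]
  obtain ⟨t, ht, -⟩ := TopCat.Sheaf.existsUnique_gluing' (⟨M.presheaf, M.isSheaf⟩ : TopCat.Sheaf Ab.{u} X)
    V ⊤ (fun i => homOfLE le_top) hcov.ge τ hτ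
  obtain ⟨s, hs⟩ := exists_hom_of_sec (L := M) t
  refine ⟨s, ((genLocus_inf_eq (he i) s (a := k.1 i) ?_).ge ((Scheme.mem_basicOpen _ _ _ hxi).2 hk)).1⟩
  rw [← rs_sv s (le_top : V i ≤ ⊤), hs]
  exact ht i

theorem isAmple_descent [QuasiCompact f] [Flat g] [Surjective g] (L : X.Modules) (hL : PicF.IsInvertible L)
    (h : CohB1.IsAmple ((pb (pullback.fst f g)).obj L)) : CohB1.IsAmple L := by
  let π := pullback.fst f g
  have : IsAffineHom π := MorphismProperty.of_isPullback (P := @IsAffineHom) (IsPullback.of_hasPullback f g).flip inferInstance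
  have : CompactSpace X := QuasiCompact.compactSpace_of_compactSpace f
  have := quasiSeparatedSpace_of_isAmple h
  have : QuasiSeparatedSpace X := by
    refine quasiSeparatedSpace_iff _ |>.mpr fun U V hU hU' hV hV' => ?_
    have h1 : IsCompact (π ⁻¹' (U ∩ V)) := by
      rw [Set.preimage_inter]
      exact QuasiSeparatedSpace.inter_isCompact _ _ (hU.preimage π.continuous)
        (π.isCompact_preimage (U := ⟨U, hU⟩) hU') (hV.preimage π.continuous)
        (π.isCompact_preimage (U := ⟨V, hV⟩) hV')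
    rw [← Set.image_preimage_eq (U ∩ V) π.surjective]
    exact h1.image π.continuous
  refine isAmple_of_qAffAt hL fun x => ?_
  obtain ⟨x', rfl⟩ := π.surjective x
  obtain ⟨n, hn, s', hx', -⟩ := (isAmple_iff.1 h).2.2 x'
  have hM := Invertible.isInvertible_tensorPow hL n
  obtain ⟨s, hs⟩ := exists_sec_mem f g hM (s' ≫ (pullbackPow π L n).inv) x' (by
    rw [show s' ≫ (pullbackPow π L n).inv = s' ≫ (pullbackPow π L n).symm.hom from rfl, genLocus_comp_iso]
    exact hx')
  refine ⟨n, hn, s, hs, ?_⟩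
  let G := CohB1.genLocus _ s
  have := isAffineHom_genLocus hM s
  let j : pullback G.ι π ⟶ pullback f g := pullback.snd _ _
  have : IsAffineHom j := MorphismProperty.of_isPullback (P := @IsAffineHom) (IsPullback.of_hasPullback G.ι π) inferInstance
  have hjn : CohB1.IsAmple (CohB1.tensorPow ((pb j).obj ((pb π).obj L)) n) :=
    (isAmple_tensorPow_iff (PicLoc.isInvertible_pullback j (PicLoc.isInvertible_pullback π hL)) hn).1
      (isAmple_pullback j (isQuasiAffine_of_isAffineHom j) h)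
  have htriv : Coh.structureModule (G : Scheme.{u}) ≅ (pb G.ι).obj (CohB1.tensorPow L n) := by
    let m := (PicLoc.pullbackStructureIso G.ι).inv ≫ (pb G.ι).map s
    have h1 : CohB1.genLocus _ m = ⊤ := by
      rw [show m = (PicLoc.pullbackStructureIso G.ι).symm.hom ≫ (pb G.ι).map s from rfl,
        genLocus_pullback G.ι hM, G.ι_preimage_self]
    have h2 : IsGen ((pb G.ι).obj (CohB1.tensorPow L n)) ⊤ (sv m ⊤) := by
      have h3 := Basis.isGen_genLocus m
      rwa [h1] at h3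
    have hiso : IsIso m := isIso_of_locally _ fun y => ⟨⊤, trivial, fun W hW =>
      isIso_app_of_isIso_restrict ((isIso_restrict_iff m ⊤).2 h2) hW⟩
    exact @asIso _ _ _ _ m hiso
  let e1 : CohB1.tensorPow ((pb j).obj ((pb π).obj L)) n ≅ Coh.structureModule (pullback G.ι π) :=
    powIso ((Scheme.Modules.pullbackComp j π).app L ≪≫
        (Scheme.Modules.pullbackCongr pullback.condition.symm).app L ≪≫
        ((Scheme.Modules.pullbackComp (pullback.fst G.ι π) G.ι).app L).symm) n ≪≫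
      (pullbackPow _ _ n).symm ≪≫ (pb _).mapIso (pullbackPow G.ι L n).symm ≪≫
      (pb _).mapIso htriv.symm ≪≫ PicLoc.pullbackStructureIso _
  have hqa : (pullback G.ι π).IsQuasiAffine := isQuasiAffine_of_isAmple_structure (isAmple_of_iso e1 hjn)
  let e2 : pullback G.ι π ≅ pullback (G.ι ≫ f) g := pullbackRightPullbackFstIso f g G.ι
  have : CompactSpace (pullback G.ι π : Scheme.{u}) := inferInstance
  have hqa' : (pullback (G.ι ≫ f) g).IsQuasiAffine := Scheme.IsQuasiAffine.of_isAffineHom e2.inv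
  have hq : AlgSpMor.QuasiAffineDescent.qaHom (pullback.snd (G.ι ≫ f) g) :=
    AlgSpMor.QuasiAffineDescent.qaHom_of_isQuasiAffine _ hqa'
  have hQg : (@Surjective ⊓ @Flat ⊓ @QuasiCompact : MorphismProperty Scheme.{u}) g :=
    ⟨⟨inferInstance, inferInstance⟩, inferInstance⟩
  exact AlgSpMor.QuasiAffineDescent.isQuasiAffine_of_qaHom
    (MorphismProperty.of_pullback_snd_of_descendsAlong (P := AlgSpMor.QuasiAffineDescent.qaHom) hQg hq)

end Groth.Agent.H52.FDesc.AmpleDescent
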