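import Groth.Prelude.Def_FDesc
import Groth.Agent.H52.QFlat.GoingDown
import Groth.Agent.Lib.Modules.SupportOps
import Groth.Agent.Lib.StalkLoc.AssStalk

/-!
Generizations lift to the support of a module flat over the base.
-/

universe u

open CategoryTheory CategoryTheory.Limits AlgebraicGeometry TensorProduct

namespace Groth.Agent.H52.FDesc.GenSupport

open Groth.Agent.Lib

theorem exists_prime_support {A B : Type u} [CommRing A] [IsLocalRing A] [CommRing B] [IsLocalRing B]
    [Algebra A B] [IsLocalHom (algebraMap A B)] {N : Type u} [AddCommGroup N] [Module A N] [Module B N]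
    [IsScalarTower A B N] [Module.Flat A N] [Module.Finite B N] [Nontrivial N] (q : Ideal A) [q.IsPrime] :
    ∃ P : Ideal B, P.IsPrime ∧ Module.annihilator B N ≤ P ∧ P.comap (algebraMap A B) = q := by
  let T : Submodule A N := q • ⊤
  let J : Ideal B :=
    { carrier := {b | ∀ n : N, b • n ∈ T}
      zero_mem' := fun n => by simp
      add_mem' := fun {a b} ha hb n => by rw [add_smul]; exact add_mem (ha n) (hb n)
      smul_mem' := fun d c hc n => by rw [smul_eq_mul, mul_comm, mul_smul]; exact hc _ }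
  let S : Submonoid B := q.primeCompl.map (algebraMap A B)
  have hdisj : Disjoint (J : Set B) S := by
    rw [Set.disjoint_left]
    rintro _ hb ⟨s, hs, rfl⟩
    have htop : ∀ n : N, n ∈ T := fun n =>
      Groth.Agent.H52.QFlat.GoingDown.mem_smul_top_of_smul_mem hs (by simpa only [algebraMap_smul] using hb n)
    have hle : (⊤ : Submodule B N) ≤ q.map (algebraMap A B) • (⊤ : Submodule B N) := by
      intro n _
      have hT : T ≤ (q.map (algebraMap A B) • (⊤ : Submodule B N)).restrictScalars A :=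
        Submodule.smul_le.mpr fun a ha m _ => by
          show a • m ∈ q.map (algebraMap A B) • (⊤ : Submodule B N)
          rw [← IsScalarTower.algebraMap_smul B a m]
          exact Submodule.smul_mem_smul (Ideal.mem_map_of_mem _ ha) Submodule.mem_top
      exact hT (htop n)
    refine top_ne_bot (α := Submodule B N) (Submodule.eq_bot_of_le_smul_of_le_jacobson_bot _ ⊤
      Module.Finite.fg_top hle ?_)
    refine le_trans (Ideal.map_le_iff_le_comap.mpr fun a ha => ?_) (IsLocalRing.maximalIdeal_le_jacobson ⊥)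
    exact fun hu => IsLocalRing.le_maximalIdeal (Ideal.IsPrime.ne_top ‹_›) ha (isUnit_of_map_unit (algebraMap A B) a hu)
  obtain ⟨P, hP, hJP, hPS⟩ := Ideal.exists_le_prime_disjoint J S hdisj
  refine ⟨P, hP, fun b hb => hJP fun n => ?_, le_antisymm (fun a ha => ?_) fun a ha => hJP fun n => ?_⟩
  · rw [Module.mem_annihilator.mp hb n]; exact zero_mem _
  · by_contra haq
    exact Set.disjoint_left.mp hPS ha ⟨a, haq, rfl⟩
  · rw [algebraMap_smul]
    exact Submodule.smul_mem_smul ha Submodule.mem_top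

theorem mem_support_fromSpecStalk {X : Scheme.{u}} (M : X.Modules) [M.IsQuasicoherent]
    [SheafOfModules.IsFiniteType (R := X.ringCatSheaf) M] (x : X) (P : Spec (X.presheaf.stalk x))
    (hP : Module.annihilator (X.presheaf.stalk x) (M.presheaf.stalk x) ≤ P.asIdeal) :
    X.fromSpecStalk x P ∈ CohB1.support M := by
  obtain ⟨U, hU, hx, -⟩ := exists_isAffineOpen_mem_and_subset (x := x) (U := ⊤) trivial
  let _ := TopCat.Presheaf.algebra_section_stalk X.presheaf (⟨x, hx⟩ : U)
  have he : X.fromSpecStalk x P = hU.fromSpec (P.comap (algebraMap Γ(X, U) (X.presheaf.stalk x))) := by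
    rw [← hU.fromSpecStalk_eq_fromSpecStalk hx]
    rfl
  have hz : X.fromSpecStalk x P ∈ U := by
    rw [he, ← SetLike.mem_coe, ← hU.range_fromSpec]; exact ⟨_, rfl⟩
  have hp : hU.primeIdealOf ⟨_, hz⟩ = P.comap (algebraMap Γ(X, U) (X.presheaf.stalk x)) :=
    hU.fromSpec.isOpenEmbedding.injective ((hU.fromSpec_primeIdealOf ⟨_, hz⟩).trans he)
  rw [← Modules.SupportOps.primeIdealOf_mem_support_iff M hU hz, hp]
  have := Modules.GenStalk.finite_stalk M x
  obtain ⟨v, hv⟩ := Module.mem_support_iff'.mp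
    ((Module.mem_support_iff_of_finite (R := X.presheaf.stalk x) (M := M.presheaf.stalk x) (p := P)).mpr hP)
  obtain ⟨r, t, hr, ht⟩ := StalkLoc.Basic.exists_smul_eq_germ hU hx v
  refine Module.mem_support_iff'.mpr ⟨t, fun a ha ha0 => hv (X.presheaf.germ U x hx a) ha ?_⟩
  have h1 := congrArg (M.presheaf.germ U x hx) ha0
  rw [Modules.StalkModule.germ_smul, map_zero, ← ht, smul_comm] at h1
  exact ((X.mem_basicOpen r x hx).mp hr).smul_eq_zero.mp h1

/-- Generizations of the image lift to generizations in the support of a flat module. -/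
theorem exists_lift {X Y : Scheme.{u}} {f : X ⟶ Y} (F : X.Modules) [F.IsQuasicoherent]
    [SheafOfModules.IsFiniteType (R := X.ringCatSheaf) F] (hflat : FlatMod.IsFlatOver f F) {x : X}
    (hx : x ∈ CohB1.support F) {w : Y} (hw : w ⤳ f x) :
    ∃ z ∈ CohB1.support F, z ⤳ x ∧ f z = w := by
  let _ : Algebra (Y.presheaf.stalk (f x)) (X.presheaf.stalk x) := (f.stalkMap x).hom.toAlgebra
  let _ := FlatMod.moduleStalkOver f F x
  have : IsScalarTower (Y.presheaf.stalk (f x)) (X.presheaf.stalk x) (F.presheaf.stalk x) :=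
    ⟨fun r s v => mul_smul ((f.stalkMap x).hom r) s v⟩
  have : IsLocalHom (algebraMap (Y.presheaf.stalk (f x)) (X.presheaf.stalk x)) :=
    inferInstanceAs (IsLocalHom (f.stalkMap x).hom)
  have : Module.Flat (Y.presheaf.stalk (f x)) (F.presheaf.stalk x) := hflat x
  have := Modules.GenStalk.finite_stalk F x
  have : Nontrivial (F.presheaf.stalk x) := not_subsingleton_iff_nontrivial.mp hx
  obtain ⟨q, hq⟩ := (Scheme.range_fromSpecStalk (X := Y) (x := f x)).ge hw
  have := q.2
  obtain ⟨P, hP, hann, hc⟩ := exists_prime_support (B := X.presheaf.stalk x) (N := F.presheaf.stalk x) q.asIdeal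
  let PP : Spec (X.presheaf.stalk x) := ⟨P, hP⟩
  refine ⟨X.fromSpecStalk x PP, mem_support_fromSpecStalk F x PP hann,
    (Scheme.range_fromSpecStalk (X := X) (x := x)).le ⟨_, rfl⟩, ?_⟩
  rw [← Scheme.Hom.comp_apply, ← Scheme.SpecMap_stalkMap_fromSpecStalk, Scheme.Hom.comp_apply, ← hq]
  congr 1
  exact PrimeSpectrum.ext hc

theorem maximal_iff {X Y : Scheme.{u}} (f : X ⟶ Y) (F : X.Modules) [F.IsQuasicoherent]
    [SheafOfModules.IsFiniteType (R := X.ringCatSheaf) F] (hflat : FlatMod.IsFlatOver f F)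
    (E : Y.Modules) [E.IsQuasicoherent] [SheafOfModules.IsFiniteType (R := Y.ringCatSheaf) E] (x : X) :
    (x ∈ CohB1.support (CohB1.tensorMod ((Scheme.Modules.pullback f).obj E) F) ∧
        ∀ z ∈ CohB1.support (CohB1.tensorMod ((Scheme.Modules.pullback f).obj E) F), z ⤳ x → z = x) ↔
      ((f x ∈ CohB1.support E ∧ ∀ w ∈ CohB1.support E, w ⤳ f x → w = f x) ∧
        (f.asFiber x ∈ CohB1.support ((Scheme.Modules.pullback (f.fiberι (f x))).obj F) ∧
          ∀ z ∈ CohB1.support ((Scheme.Modules.pullback (f.fiberι (f x))).obj F), z ⤳ f.asFiber x → z = f.asFiber x)) := by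
  have := Modules.SupportOps.isFT_pullback f E
  rw [Modules.SupportOps.support_tensorMod, Modules.SupportOps.support_pullback,
    Modules.SupportOps.support_pullback]
  have hι := f.fiberι_asFiber x
  simp only [Set.mem_inter_iff, Set.mem_preimage, hι]
  constructor
  · rintro ⟨⟨hE, hF⟩, hmax⟩
    refine ⟨⟨hE, fun w hw hwx => ?_⟩, hF, fun z hz hzx => ?_⟩
    · obtain ⟨z, hz, hzx, rfl⟩ := exists_lift F hflat hF hwx
      rw [hmax z ⟨hw, hz⟩ hzx]
    · apply (f.fiberι (f x)).isEmbedding.injective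
      have hz' : f (f.fiberι (f x) z) = f x := by
        have : f.fiberι (f x) z ∈ f ⁻¹' {f x} := by rw [← f.range_fiberι (f x)]; exact ⟨z, rfl⟩
        exact this
      rw [hι]
      have hs := hzx.map (f.fiberι (f x)).continuous
      rw [hι] at hs
      exact hmax _ ⟨hz'.symm ▸ hE, hz⟩ hs
  · rintro ⟨⟨hE, hmaxE⟩, hF, hmaxF⟩
    refine ⟨⟨hE, hF⟩, fun z ⟨hzE, hzF⟩ hzx => ?_⟩
    have := hmaxE _ hzE (hzx.map f.continuous)
    obtain ⟨a, rfl⟩ : z ∈ Set.range (f.fiberι (f x)) := by rw [f.range_fiberι]; exact this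
    have hs : f.fiberι (f x) a ⤳ f.fiberι (f x) (f.asFiber x) := by rw [hι]; exact hzx
    rw [hmaxF a hzF ((f.fiberι (f x)).isEmbedding.isInducing.specializes_iff.mp hs), hι]

end Groth.Agent.H52.FDesc.GenSupport
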