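import Groth.Agent.H52.FDesc.PullbackFlat
import Groth.Agent.H52.FBase.StalkBC
import Mathlib.RingTheory.TensorProduct.Basic
import Mathlib.RingTheory.Flat.Stability

/-!
Flatness of a module over the base is stable under base change.
-/

universe u

open CategoryTheory CategoryTheory.Limits AlgebraicGeometry TensorProduct

namespace Groth.Agent.H52.FDesc.BaseChangeFlat

open Groth.Agent.H52.FDesc.PullbackFlat

noncomputable section

/-- If `M` is flat over `R` and `L` is flat over `A ⊗ S`, then `L ⊗ M` is flat over `S`. -/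
theorem flat_of_localization {R A S L M : Type u} [CommRing R] [CommRing A] [CommRing S] [CommRing L]
    [Algebra R A] [Algebra R S] [Algebra A L] [Algebra (A ⊗[R] S) L] [IsScalarTower A (A ⊗[R] S) L]
    [Module.Flat (A ⊗[R] S) L] [AddCommGroup M] [Module A M] [Module R M] [IsScalarTower R A M]
    [Module.Flat R M] [Module S (L ⊗[A] M)]
    (hs : ∀ (s : S) (l : L) (m : M),
      s • (l ⊗ₜ[A] m) = (algebraMap (A ⊗[R] S) L (1 ⊗ₜ s) * l) ⊗ₜ[A] m) :
    Module.Flat S (L ⊗[A] M) := by
  let ι : S →+* A ⊗[R] S := (Algebra.TensorProduct.includeRight : S →ₐ[R] A ⊗[R] S).toRingHom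
  let _ : Module S ((A ⊗[R] S) ⊗[A] M) := Module.compHom _ ι
  have : SMulCommClass S (A ⊗[R] S) ((A ⊗[R] S) ⊗[A] M) := ⟨fun s t z => by
    show ι s • t • z = t • ι s • z
    rw [smul_comm]⟩
  -- `T ⊗_A M = S ⊗_R M`
  let e : (A ⊗[R] S) ⊗[A] M ≃+ S ⊗[R] M :=
    ((TensorProduct.comm A (A ⊗[R] S) M).toAddEquiv.trans
      (AlgebraTensorModule.cancelBaseChange R A A M S).toAddEquiv).trans
      (TensorProduct.comm R M S).toAddEquiv
  let e' : (A ⊗[R] S) ⊗[A] M ≃ₗ[S] S ⊗[R] M :=
    { e with
      map_smul' := fun s z => by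
        show e (ι s • z) = s • e z
        induction z using TensorProduct.induction_on with
        | zero => simp
        | add x y hx hy => simp only [smul_add, map_add, hx, hy]
        | tmul t m =>
          induction t using TensorProduct.induction_on with
          | zero => simp
          | add x y hx hy => simp only [TensorProduct.add_tmul, smul_add, map_add, hx, hy]
          | tmul a s' =>
            simp [e, ι, TensorProduct.smul_tmul'] }
  have hG : Module.Flat S ((A ⊗[R] S) ⊗[A] M) := Module.Flat.of_linearEquiv e'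
  let φ : S →+* L := (algebraMap (A ⊗[R] S) L).comp ι
  let _ : Module S (L ⊗[A ⊗[R] S] ((A ⊗[R] S) ⊗[A] M)) := Module.compHom _ φ
  have hsmul : ∀ (s : S) (l : L) (z : (A ⊗[R] S) ⊗[A] M),
      s • (l ⊗ₜ[A ⊗[R] S] z) = l ⊗ₜ[A ⊗[R] S] (s • z) := fun s l z => by
    show (algebraMap (A ⊗[R] S) L (ι s) • l) ⊗ₜ[A ⊗[R] S] z = _
    rw [algebraMap_smul, TensorProduct.smul_tmul]
    rfl
  have h := flat_tensor (R := S) (A := A ⊗[R] S) (B := L) (G := (A ⊗[R] S) ⊗[A] M) hsmul hG
  let c := AlgebraTensorModule.cancelBaseChange A (A ⊗[R] S) L L M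
  let c' : L ⊗[A ⊗[R] S] ((A ⊗[R] S) ⊗[A] M) ≃ₗ[S] L ⊗[A] M :=
    { c with
      map_smul' := fun s z => by
        show c (φ s • z) = s • c z
        rw [map_smul]
        generalize c z = w
        induction w using TensorProduct.induction_on with
        | zero => simp
        | add x y hx hy => simp only [smul_add, hx, hy]
        | tmul l m => rw [hs, TensorProduct.smul_tmul']; rfl }
  exact Module.Flat.of_linearEquiv c'.symm

variable {X Y Y' : Scheme.{u}} (f : X ⟶ Y) (g : Y' ⟶ Y)

theorem isPullback_of_mono {C : Type*} [Category C] {W T Z : C} (a : W ⟶ T) (j : T ⟶ Z) [Mono j]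
    (b : W ⟶ Z) (h : a ≫ j = b) : IsPullback a (𝟙 W) j b :=
  IsPullback.of_isLimit' ⟨by rw [Category.id_comp, h]⟩
    (PullbackCone.IsLimit.mk _ (fun s => s.snd)
      (fun s => by rw [← cancel_mono j, Category.assoc, h, s.condition])
      (fun s => Category.comp_id _)
      (fun s m _ hm => by simpa using hm))

set_option maxHeartbeats 1000000 in
open Groth.Agent.Lib.DerivedOX.PullbackStalk Groth.Agent.Lib.Modules in
theorem isFlatOverAt_baseChange (M : X.Modules) (x' : ↥(pullback f g))
    (h : FlatMod.IsFlatOverAt f M (pullback.fst f g x')) :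
    FlatMod.IsFlatOverAt (pullback.snd f g) ((Scheme.Modules.pullback (pullback.fst f g)).obj M) x' := by
  let p := pullback.fst f g
  let q := pullback.snd f g
  let R := Y.presheaf.stalk (f (p x'))
  let A := X.presheaf.stalk (p x')
  let S := Y'.presheaf.stalk (q x')
  let L := (pullback f g).presheaf.stalk x'
  have hyy : g (q x') ⤳ f (p x') := by
    rw [← Scheme.Hom.comp_apply, ← Scheme.Hom.comp_apply, pullback.condition]
  let φ : R ⟶ A := f.stalkMap (p x')
  let ψ : R ⟶ S := Y.presheaf.stalkSpecializes hyy ≫ g.stalkMap (q x')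
  let πA : A ⟶ L := p.stalkMap x'
  let πS : S ⟶ L := q.stalkMap x'
  have hψ : Spec.map ψ ≫ Y.fromSpecStalk (f (p x')) = Y'.fromSpecStalk (q x') ≫ g := by
    rw [Spec.map_comp, Category.assoc, Scheme.SpecMap_stalkSpecializes_fromSpecStalk,
      Scheme.SpecMap_stalkMap_fromSpecStalk]
  have hcomm : φ ≫ πA = ψ ≫ πS := by
    apply Spec.map_injective
    rw [← cancel_mono (Y.fromSpecStalk (f (p x'))), Spec.map_comp, Spec.map_comp, Category.assoc,
      Category.assoc, hψ, Scheme.SpecMap_stalkMap_fromSpecStalk, ← Category.assoc, ← Category.assoc,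
      Scheme.SpecMap_stalkMap_fromSpecStalk, Scheme.SpecMap_stalkMap_fromSpecStalk,
      Category.assoc, Category.assoc, pullback.condition]
  let _ : Algebra R A := φ.hom.toAlgebra
  let _ : Algebra R S := ψ.hom.toAlgebra
  let _ : Algebra A L := πA.hom.toAlgebra
  let _ : Algebra R L := (πA.hom.comp φ.hom).toAlgebra
  have : IsScalarTower R A L := IsScalarTower.of_algebraMap_eq fun _ => rfl
  let iS : S →ₐ[R] L :=
    { πS.hom with commutes' := fun r => (congr($(hcomm).hom r)).symm }
  let θ : A ⊗[R] S →ₐ[A] L :=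
    Algebra.TensorProduct.lift (Algebra.ofId A L) iS fun _ _ => Commute.all _ _
  let _ : Algebra (A ⊗[R] S) L := θ.toRingHom.toAlgebra
  have : IsScalarTower A (A ⊗[R] S) L := IsScalarTower.of_algebraMap_eq fun a => (θ.commutes a).symm
  -- the flatness of `θ`
  let inl : Spec (CommRingCat.of (A ⊗[R] S)) ⟶ Spec A :=
    Spec.map (CommRingCat.ofHom (Algebra.TensorProduct.includeLeftRingHom : A →+* A ⊗[R] S))
  let inr : Spec (CommRingCat.of (A ⊗[R] S)) ⟶ Spec S :=
    Spec.map (CommRingCat.ofHom (Algebra.TensorProduct.includeRight : S →ₐ[R] A ⊗[R] S).toRingHom)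
  have hin : inl ≫ Spec.map φ = inr ≫ Spec.map ψ := by
    refine (Spec.map_comp φ _).symm.trans ((congrArg Spec.map ?_).trans (Spec.map_comp ψ _))
    ext r
    exact Algebra.TensorProduct.tmul_one_eq_one_tmul (A := A) (B := S) r
  let j : Spec (CommRingCat.of (A ⊗[R] S)) ⟶ pullback f g :=
    pullback.lift (inl ≫ X.fromSpecStalk (p x')) (inr ≫ Y'.fromSpecStalk (q x')) (by
      rw [Category.assoc, Category.assoc, ← Scheme.SpecMap_stalkMap_fromSpecStalk, ← hψ,
        ← Category.assoc, hin, Category.assoc])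
  have hj : Mono j := ⟨fun {W} u v huv => by
    have h1 := congr($huv ≫ pullback.fst f g)
    have h2 := congr($huv ≫ pullback.snd f g)
    simp only [Category.assoc, j, pullback.lift_fst, pullback.lift_snd] at h1 h2
    rw [← Category.assoc, ← Category.assoc, cancel_mono] at h1 h2
    rw [← cancel_mono (pullbackSpecIso R A S).inv]
    ext1 <;> rw [Category.assoc, Category.assoc]
    · rw [pullbackSpecIso_inv_fst]; exact h1
    · rw [pullbackSpecIso_inv_snd]; exact h2⟩
  let a : Spec L ⟶ Spec (CommRingCat.of (A ⊗[R] S)) :=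
    Spec.map (CommRingCat.ofHom θ.toRingHom : CommRingCat.of (A ⊗[R] S) ⟶ L)
  have haj : a ≫ j = (pullback f g).fromSpecStalk x' := by
    have hA : a ≫ inl = Spec.map πA := by
      refine (Spec.map_comp (_ : A ⟶ CommRingCat.of (A ⊗[R] S)) _).symm.trans (congrArg Spec.map ?_)
      ext z; show θ (z ⊗ₜ 1) = πA.hom z; simp [θ]; rfl
    have hS : a ≫ inr = Spec.map πS := by
      refine (Spec.map_comp (_ : S ⟶ CommRingCat.of (A ⊗[R] S)) _).symm.trans (congrArg Spec.map ?_)
      ext z; show θ (1 ⊗ₜ z) = πS.hom z; simp [θ, iS]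
    apply pullback.hom_ext
    · rw [Category.assoc, pullback.lift_fst, ← Category.assoc, hA,
        Scheme.SpecMap_stalkMap_fromSpecStalk]
    · rw [Category.assoc, pullback.lift_snd, ← Category.assoc, hS,
        Scheme.SpecMap_stalkMap_fromSpecStalk]
  have : Flat a := MorphismProperty.of_isPullback (P := @Flat)
    (isPullback_of_mono a j _ haj).flip (Groth.Agent.H52.FBase.StalkBC.flat_fromSpecStalk x')
  have : Module.Flat (A ⊗[R] S) L := (HasRingHomProperty.Spec_iff (P := @Flat)).mp this
  -- the module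
  let W := M.presheaf.stalk (p x')
  let _ : Module R W := FlatMod.moduleStalkOver f M (p x')
  have : IsScalarTower R A W := ⟨fun r a w => mul_smul (φ.hom r) a w⟩
  have : Module.Flat R W := h
  let _ : Module S (L ⊗[A] W) := Module.compHom _ πS.hom
  have hflat : Module.Flat S (L ⊗[A] W) := flat_of_localization fun s l m => by
    show (πS.hom s • l) ⊗ₜ[A] m = _
    congr 1
    show πS.hom s * l = θ (1 ⊗ₜ s) * l
    congr 1
    simp [θ, iS]
  let V := ((Scheme.Modules.pullback p).obj M).presheaf.stalk x'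
  let _ : Module S V := FlatMod.moduleStalkOver q ((Scheme.Modules.pullback p).obj M) x'
  let e : L ⊗[A] W ≃ₗ[L] V := ((pullbackStalkIso p x').app M).toLinearEquiv
  let e' : (L ⊗[A] W) ≃ₗ[S] V :=
    { e with
      map_smul' := fun s z => by
        show e (πS.hom s • z) = πS.hom s • e z
        rw [map_smul] }
  exact Module.Flat.of_linearEquiv e'.symm

theorem isFlatOver_baseChange (M : X.Modules) (h : FlatMod.IsFlatOver f M) :
    FlatMod.IsFlatOver (pullback.snd f g) ((Scheme.Modules.pullback (pullback.fst f g)).obj M) :=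
  fun x' => isFlatOverAt_baseChange f g M x' (h _)

theorem isFlatOver_comp {X Y Z : Scheme.{u}} (f : X ⟶ Y) (g : Y ⟶ Z) [Flat g] (M : X.Modules)
    (h : FlatMod.IsFlatOver f M) : FlatMod.IsFlatOver (f ≫ g) M := by
  intro x
  let _ : Module (Y.presheaf.stalk (f x)) (M.presheaf.stalk x) := FlatMod.moduleStalkOver f M x
  let _ : Module (Z.presheaf.stalk (g (f x))) (M.presheaf.stalk x) :=
    FlatMod.moduleStalkOver (f ≫ g) M x
  let _ : Algebra (Z.presheaf.stalk (g (f x))) (Y.presheaf.stalk (f x)) := (g.stalkMap (f x)).hom.toAlgebra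
  have : IsScalarTower (Z.presheaf.stalk (g (f x))) (Y.presheaf.stalk (f x)) (M.presheaf.stalk x) :=
    ⟨fun r a m => by
      show (f.stalkMap x).hom ((g.stalkMap (f x)).hom r * a) • m =
        ((f ≫ g).stalkMap x).hom r • (f.stalkMap x).hom a • m
      rw [map_mul, mul_smul, Scheme.Hom.stalkMap_comp]
      rfl⟩
  have : Module.Flat (Y.presheaf.stalk (f x)) (M.presheaf.stalk x) := h x
  have : Module.Flat (Z.presheaf.stalk (g (f x))) (Y.presheaf.stalk (f x)) := Flat.stalkMap g (f x)
  exact Module.Flat.trans (Z.presheaf.stalk (g (f x))) (Y.presheaf.stalk (f x)) (M.presheaf.stalk x)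

theorem isFlatOver_iff_baseChange [Flat g] [Surjective g] (M : X.Modules) :
    FlatMod.IsFlatOver f M ↔
      FlatMod.IsFlatOver (pullback.snd f g) ((Scheme.Modules.pullback (pullback.fst f g)).obj M) := by
  refine ⟨isFlatOver_baseChange f g M, fun h => ?_⟩
  have h' := isFlatOver_comp (pullback.snd f g) g _ h
  rw [← pullback.condition] at h'
  have : Flat (pullback.fst f g) := inferInstance
  exact (isFlatOver_pullback_iff (pullback.fst f g) f M).mp h'

end

end Groth.Agent.H52.FDesc.BaseChangeFlat
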