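import Groth.Agent.H52.FDesc.BaseChangeFlat
import Groth.Agent.Lib.DerivedOX.TensorSheaf
import Groth.Agent.Lib.Modules.StalkModule
import Groth.Agent.Lib.FibreDeg.Basic
import Groth.Agent.H46.FiberStalk
import Mathlib.LinearAlgebra.TensorProduct.Quotient
import Mathlib.RingTheory.Flat.FaithfullyFlat.Algebra

/-!
Flatness of `M ⊗ t^* E` for `M` faithfully flat relative to the target of `t`.
-/

universe u

open CategoryTheory CategoryTheory.Limits AlgebraicGeometry TensorProduct IsLocalRing

namespace Groth.Agent.H52.FDesc.FFTensor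

open Groth.Agent.Lib

noncomputable section

section Algebra

variable {R S N E : Type u} [CommRing R] [CommRing S] [Algebra R S] [AddCommGroup N] [Module S N]
  [Module R N] [IsScalarTower R S N] [AddCommGroup E] [Module S E] [Module R E] [IsScalarTower R S E]

theorem flat_tensor_iff [IsLocalRing S] [Module.Flat S N] :
    (Module.Flat R E → Module.Flat R (N ⊗[S] E)) ∧
      ((maximalIdeal S • (⊤ : Submodule S N)) ≠ ⊤ → Module.Flat R (N ⊗[S] E) → Module.Flat R E) := by
  have key : ∀ (P Q : Type u) [AddCommGroup P] [AddCommGroup Q] [Module R P] [Module R Q] (φ : P →ₗ[R] Q),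
      ∃ ψ : E ⊗[R] P →ₗ[S] E ⊗[R] Q, (∀ z, ψ z = φ.lTensor E z) ∧
        (Function.Injective (φ.lTensor (N ⊗[S] E)) ↔ Function.Injective (ψ.lTensor N)) := by
    intro P Q _ _ _ _ φ
    let ψ : E ⊗[R] P →ₗ[S] E ⊗[R] Q := AlgebraTensorModule.lTensor S E φ
    let eP := AlgebraTensorModule.assoc R S S N E P
    let eQ := AlgebraTensorModule.assoc R S S N E Q
    have hnat : ∀ z, eQ (φ.lTensor (N ⊗[S] E) z) = ψ.lTensor N (eP z) := by
      intro z
      induction z using TensorProduct.induction_on with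
      | zero => simp
      | add a b ha hb => simp only [map_add, ha, hb]
      | tmul w p =>
        induction w using TensorProduct.induction_on with
        | zero => simp
        | add a b ha hb => simp only [TensorProduct.add_tmul, map_add, ha, hb]
        | tmul n e => rfl
    refine ⟨ψ, fun _ => rfl, fun h a b hab => ?_, fun h a b hab => ?_⟩
    · obtain ⟨a, rfl⟩ := eP.surjective a
      obtain ⟨b, rfl⟩ := eP.surjective b
      rw [← hnat, ← hnat] at hab
      rw [h (eQ.injective hab)]
    · exact eP.injective (h (by rw [← hnat, ← hnat, hab]))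
  simp only [Module.Flat.iff_lTensor_preserves_injective_linearMap (R := R)]
  constructor
  · intro h P Q _ _ _ _ φ hφ
    obtain ⟨ψ, hψ, hiff⟩ := key P Q φ
    exact hiff.mpr (Module.Flat.lTensor_preserves_injective_linearMap ψ
      fun a b hab => h φ hφ (by rw [← hψ, ← hψ, hab]))
  · intro hne h P Q _ _ _ _ φ hφ
    have : Module.FaithfullyFlat S N := (Module.FaithfullyFlat.iff_flat_and_proper_ideal S N).mpr
      ⟨inferInstance, fun I hI htop => hne (top_le_iff.mp
        (htop.ge.trans (Submodule.smul_mono_left (le_maximalIdeal hI))))⟩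
    obtain ⟨ψ, hψ, hiff⟩ := key P Q φ
    have hψi := (Module.FaithfullyFlat.lTensor_injective_iff_injective S N ψ).mp (hiff.mp (h φ hφ))
    exact fun a b hab => hψi (by rw [hψ, hψ, hab])

theorem smul_top_ne_top_iff [IsLocalRing R] [IsLocalRing S] [Module.Flat S N] :
    ((maximalIdeal S • (⊤ : Submodule S N)) ≠ ⊤ →
      (maximalIdeal R • (⊤ : Submodule R E)) ≠ ⊤ →
      (maximalIdeal R • (⊤ : Submodule R (N ⊗[S] E))) ≠ ⊤) ∧
    ((maximalIdeal R • (⊤ : Submodule R (N ⊗[S] E))) ≠ ⊤ →
      (maximalIdeal R • (⊤ : Submodule R E)) ≠ ⊤) := by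
  have e : (N ⊗[S] E) ⊗[R] (R ⧸ maximalIdeal R) ≃ₗ[S] N ⊗[S] (E ⊗[R] (R ⧸ maximalIdeal R)) :=
    AlgebraTensorModule.assoc R S S N E _
  have hq : ∀ (V : Type u) [AddCommGroup V] [Module R V],
      (maximalIdeal R • (⊤ : Submodule R V)) ≠ ⊤ ↔ Nontrivial (V ⊗[R] (R ⧸ maximalIdeal R)) := by
    intro V _ _
    rw [← Submodule.Quotient.nontrivial_iff]
    exact ((tensorQuotEquivQuotSMul V (maximalIdeal R)).toEquiv.nontrivial_congr).symm
  rw [hq, hq, e.toEquiv.nontrivial_congr]
  constructor
  · intro hne hE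
    have : Module.FaithfullyFlat S N := (Module.FaithfullyFlat.iff_flat_and_proper_ideal S N).mpr
      ⟨inferInstance, fun I hI htop => hne (top_le_iff.mp
        (htop.ge.trans (Submodule.smul_mono_left (le_maximalIdeal hI))))⟩
    infer_instance
  · intro h
    by_contra hE
    rw [not_nontrivial_iff_subsingleton] at hE
    exact (not_subsingleton_iff_nontrivial.mpr h) inferInstance

end Algebra

variable {T Y' Z : Scheme.{u}} (t : T ⟶ Y') (h : Y' ⟶ Z) (M : T.Modules) (E : Y'.Modules)

/-- `M` is not killed by the fibre at `z`. -/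
abbrev NeTop {T Y : Scheme.{u}} (t : T ⟶ Y) (M : T.Modules) (z : T) : Prop :=
  letI := FlatMod.moduleStalkOver t M z
  maximalIdeal (Y.presheaf.stalk (t z)) • (⊤ : Submodule (Y.presheaf.stalk (t z)) (M.presheaf.stalk z)) ≠ ⊤

theorem stalk_facts (z : T) (hM : FlatMod.IsFlatOverAt t M z) :
    (FlatMod.IsFlatOverAt h E (t z) →
      FlatMod.IsFlatOverAt (t ≫ h) (CohB1.tensorMod M ((Scheme.Modules.pullback t).obj E)) z) ∧
    (NeTop t M z → FlatMod.IsFlatOverAt (t ≫ h) (CohB1.tensorMod M ((Scheme.Modules.pullback t).obj E)) z →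
      FlatMod.IsFlatOverAt h E (t z)) ∧
    (NeTop t M z → NeTop h E (t z) →
      NeTop (t ≫ h) (CohB1.tensorMod M ((Scheme.Modules.pullback t).obj E)) z) ∧
    (NeTop (t ≫ h) (CohB1.tensorMod M ((Scheme.Modules.pullback t).obj E)) z → NeTop h E (t z)) := by
  let R := Z.presheaf.stalk (h (t z))
  let S := Y'.presheaf.stalk (t z)
  let L := T.presheaf.stalk z
  let N := M.presheaf.stalk z
  let W := E.presheaf.stalk (t z)
  let algRS : Algebra R S := (h.stalkMap (t z)).hom.toAlgebra
  let algSL : Algebra S L := (t.stalkMap z).hom.toAlgebra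
  let modSN : Module S N := FlatMod.moduleStalkOver t M z
  let modRW : Module R W := FlatMod.moduleStalkOver h E (t z)
  let modRN : Module R N := Module.compHom _ (h.stalkMap (t z)).hom
  have : IsScalarTower R S W := ⟨fun r s v => mul_smul ((h.stalkMap (t z)).hom r) s v⟩
  have : IsScalarTower R S N := ⟨fun r s v => mul_smul ((h.stalkMap (t z)).hom r) s v⟩
  have : IsScalarTower S L N := ⟨fun r s v => mul_smul ((t.stalkMap z).hom r) s v⟩
  have : Module.Flat S N := hM
  let V := (CohB1.tensorMod M ((Scheme.Modules.pullback t).obj E)).presheaf.stalk z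
  let modRV : Module R V :=
    FlatMod.moduleStalkOver (t ≫ h) (CohB1.tensorMod M ((Scheme.Modules.pullback t).obj E)) z
  let e1 : V ≃ₗ[L] N ⊗[L] ((Scheme.Modules.pullback t).obj E).presheaf.stalk z :=
    DerivedOX.TensorSheaf.tensorStalk z M _
  let e2 : L ⊗[S] W ≃ₗ[L] ((Scheme.Modules.pullback t).obj E).presheaf.stalk z :=
    ((DerivedOX.PullbackStalk.pullbackStalkIso t z).app E).toLinearEquiv
  let e : N ⊗[S] W ≃ₗ[L] V :=
    (AlgebraTensorModule.cancelBaseChange S L L N W).symm.trans
      ((TensorProduct.congr (LinearEquiv.refl L N) e2).trans e1.symm)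
  let eR : (N ⊗[S] W) ≃ₗ[R] V :=
    { e with
      map_smul' := fun r v => by
        show e (r • v) = ((t ≫ h).stalkMap z).hom r • e v
        rw [← map_smul, Scheme.Hom.stalkMap_comp]
        rfl }
  have hiff : Module.Flat R V ↔ Module.Flat R (N ⊗[S] W) :=
    ⟨fun _ => Module.Flat.of_linearEquiv eR, fun _ => Module.Flat.of_linearEquiv eR.symm⟩
  have htop : maximalIdeal R • (⊤ : Submodule R V) ≠ ⊤ ↔
      maximalIdeal R • (⊤ : Submodule R (N ⊗[S] W)) ≠ ⊤ := by
    have hm : (maximalIdeal R • (⊤ : Submodule R (N ⊗[S] W))).map eR.toLinearMap =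
        maximalIdeal R • (⊤ : Submodule R V) := by
      rw [Submodule.map_smul'', Submodule.map_top, LinearEquiv.range]
    rw [← hm, ne_eq, ne_eq]
    refine not_congr ⟨fun h1 => ?_, fun h1 => by rw [h1, Submodule.map_top, LinearEquiv.range]⟩
    refine Submodule.map_injective_of_injective (f := eR.toLinearMap) eR.injective ?_
    rw [h1, Submodule.map_top, LinearEquiv.range]
  obtain ⟨f1, f2⟩ := flat_tensor_iff (R := R) (S := S) (N := N) (E := W)
  obtain ⟨g1, g2⟩ := smul_top_ne_top_iff (R := R) (S := S) (N := N) (E := W)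
  exact ⟨fun h1 => hiff.mpr (f1 h1), fun h1 h2 => f2 h1 (hiff.mp h2),
    fun h1 h2 => htop.mpr (g1 h1 h2), fun h1 => g2 (htop.mp h1)⟩

/-- Flatness and faithful flatness of `M ⊗ t^* E` over a further base. -/
theorem main (hM : FlatMod.IsFlatOver t M) (hMff : ∀ y : Y', ∃ z, t z = y ∧ NeTop t M z) :
    (FlatMod.IsFlatOver h E ↔
        FlatMod.IsFlatOver (t ≫ h) (CohB1.tensorMod M ((Scheme.Modules.pullback t).obj E))) ∧
      ((FlatMod.IsFlatOver h E ∧ ∀ w : Z, ∃ y, h y = w ∧ NeTop h E y) ↔
        (FlatMod.IsFlatOver (t ≫ h) (CohB1.tensorMod M ((Scheme.Modules.pullback t).obj E)) ∧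
          ∀ w : Z, ∃ z, (t ≫ h) z = w ∧
            NeTop (t ≫ h) (CohB1.tensorMod M ((Scheme.Modules.pullback t).obj E)) z)) := by
  have h1 : FlatMod.IsFlatOver h E ↔
      FlatMod.IsFlatOver (t ≫ h) (CohB1.tensorMod M ((Scheme.Modules.pullback t).obj E)) := by
    refine ⟨fun hf z => (stalk_facts t h M E z (hM z)).1 (hf _), fun hf y => ?_⟩
    obtain ⟨z, rfl, hz⟩ := hMff y
    exact (stalk_facts t h M E z (hM z)).2.1 hz (hf z)
  refine ⟨h1, and_congr h1 ⟨fun H w => ?_, fun H w => ?_⟩⟩
  · obtain ⟨y, hy, hyE⟩ := H w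
    obtain ⟨z, rfl, hz⟩ := hMff y
    exact ⟨z, hy, (stalk_facts t h M E z (hM z)).2.2.1 hz hyE⟩
  · obtain ⟨z, hz, hzE⟩ := H w
    exact ⟨t z, hz, (stalk_facts t h M E z (hM z)).2.2.2 hzE⟩

variable {X Y : Scheme.{u}} (f : X ⟶ Y)

theorem neTop_iff_fibre (F : X.Modules) (y : Y) (a : f.fiber y) :
    NeTop f F (f.fiberι y a) ↔
      Nontrivial (((Scheme.Modules.pullback (f.fiberι y)).obj F).presheaf.stalk a) := by
  let x := f.fiberι y a
  let R := Y.presheaf.stalk (f x)
  let S := X.presheaf.stalk x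
  let Q := (f.fiber y).presheaf.stalk a
  let algRS : Algebra R S := (f.stalkMap x).hom.toAlgebra
  let φ : S →+* Q := ((f.fiberι y).stalkMap a).hom
  let algSQ : Algebra S Q := φ.toAlgebra
  let W := F.presheaf.stalk x
  let modRW : Module R W := FlatMod.moduleStalkOver f F x
  have : IsScalarTower R S W := ⟨fun r s v => mul_smul ((f.stalkMap x).hom r) s v⟩
  let J := (maximalIdeal R).map (algebraMap R S)
  have hJ : J = RingHom.ker φ := (Groth.Agent.H46.FiberStalk.ker_stalkMap_fiberι f y a).symm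
  let eA : (S ⧸ J) ≃ₗ[S] Q :=
    (Submodule.quotEquivOfEq J (LinearMap.ker (Algebra.linearMap S Q)) (hJ.trans rfl)).trans
      (LinearMap.quotKerEquivOfSurjective (Algebra.linearMap S Q) ((f.fiberι y).stalkMap_surjective a))
  let e2 : Q ⊗[S] W ≃ₗ[Q] ((Scheme.Modules.pullback (f.fiberι y)).obj F).presheaf.stalk a :=
    ((DerivedOX.PullbackStalk.pullbackStalkIso (f.fiberι y) a).app F).toLinearEquiv
  let e : (W ⧸ (J • (⊤ : Submodule S W))) ≃ₗ[S] Q ⊗[S] W :=
    (TensorProduct.quotTensorEquivQuotSMul W J).symm.trans (TensorProduct.congr eA (LinearEquiv.refl S W))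
  show maximalIdeal R • (⊤ : Submodule R W) ≠ ⊤ ↔ _
  rw [← e2.toEquiv.nontrivial_congr, ← e.toEquiv.nontrivial_congr, Submodule.Quotient.nontrivial_iff]
  have hres : (J • (⊤ : Submodule S W)).restrictScalars R = maximalIdeal R • (⊤ : Submodule R W) := by
    refine le_antisymm (fun w hw => ?_) (Submodule.smul_le.mpr fun r hr w _ => ?_)
    · rw [Submodule.restrictScalars_mem] at hw
      refine Submodule.smul_induction_on hw (fun c hc w _ => ?_) fun _ _ => add_mem
      induction hc using Submodule.span_induction generalizing w with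
      | mem c hc =>
        obtain ⟨r, hr, rfl⟩ := hc
        rw [algebraMap_smul]
        exact Submodule.smul_mem_smul hr Submodule.mem_top
      | zero => rw [zero_smul]; exact zero_mem _
      | add c d _ _ hc hd => rw [add_smul]; exact add_mem (hc w Submodule.mem_top) (hd w Submodule.mem_top)
      | smul c d _ hd =>
        rw [smul_eq_mul, mul_comm, mul_smul]
        exact hd (c • w) Submodule.mem_top
    · show r • w ∈ J • (⊤ : Submodule S W)
      rw [← algebraMap_smul S r w]
      exact Submodule.smul_mem_smul (Ideal.mem_map_of_mem _ hr) Submodule.mem_top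
  rw [← hres, ne_eq, ne_eq, ← Submodule.restrictScalars_top R S W, Submodule.restrictScalars_inj]

variable (g : Y' ⟶ Y)

theorem exists_neTop (F : X.Modules) (hFff : ∀ y : Y, ∃ x, f x = y ∧ NeTop f F x) (y' : Y') :
    ∃ z : ↥(pullback f g), pullback.snd f g z = y' ∧
      NeTop (pullback.snd f g) ((Scheme.Modules.pullback (pullback.fst f g)).obj F) z := by
  obtain ⟨x, hx, hxF⟩ := hFff (g y')
  obtain ⟨a, rfl⟩ : x ∈ Set.range (f.fiberι (g y')) := by rw [f.range_fiberι]; exact hx
  have hne := (neTop_iff_fibre f F _ a).mp hxF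
  let p := pullback.fst f g
  let q := pullback.snd f g
  let b := Scheme.Hom.residueFieldMap g y'
  have hb : Spec.map b ≫ Y.fromSpecResidueField (g y') = Y'.fromSpecResidueField y' ≫ g :=
    Scheme.Hom.SpecMap_residueFieldMap_fromSpecResidueField g y'
  have hP : IsPullback (q.fiberι y') (q.fiberToSpecResidueField y') q (Y'.fromSpecResidueField y') :=
    IsPullback.of_hasPullback q (Y'.fromSpecResidueField y')
  have hX : IsPullback (f.fiberι (g y')) (f.fiberToSpecResidueField (g y')) f (Y.fromSpecResidueField (g y')) :=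
    IsPullback.of_hasPullback f (Y.fromSpecResidueField (g y'))
  let m : q.fiber y' ⟶ f.fiber (g y') := hX.lift (q.fiberι y' ≫ p) (q.fiberToSpecResidueField y' ≫ Spec.map b) (by
    rw [Category.assoc, Category.assoc, hb, pullback.condition, ← Category.assoc, ← Category.assoc, hP.w])
  have hι : m ≫ f.fiberι (g y') = q.fiberι y' ≫ p := hX.lift_fst _ _ _
  have h₁ : IsPullback m (q.fiberToSpecResidueField y') (f.fiberToSpecResidueField (g y')) (Spec.map b) := by
    refine IsPullback.of_right ?_ (hX.lift_snd _ _ _) hX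
    rw [hι, hb]
    exact hP.paste_horiz (IsPullback.of_hasPullback f g)
  have : Flat (Spec.map b) := FibreDeg.Basic.flat_of_field _
  have : Surjective (Spec.map b) := ⟨fun _ => ⟨default, Subsingleton.elim _ _⟩⟩
  have : Flat m := MorphismProperty.of_isPullback (P := @Flat) h₁.flip inferInstance
  have : Surjective m := MorphismProperty.of_isPullback (P := @Surjective) h₁.flip inferInstance
  obtain ⟨c, rfl⟩ := m.surjective a
  refine ⟨q.fiberι y' c, ?_, (neTop_iff_fibre q _ y' c).mpr ?_⟩
  · have : q.fiberι y' c ∈ q ⁻¹' {y'} := by rw [← q.range_fiberι y']; exact ⟨c, rfl⟩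
    exact this
  let ei : (Scheme.Modules.pullback (q.fiberι y')).obj ((Scheme.Modules.pullback p).obj F) ≅
      (Scheme.Modules.pullback m).obj ((Scheme.Modules.pullback (f.fiberι (g y'))).obj F) :=
    (Scheme.Modules.pullbackComp (q.fiberι y') p).app F ≪≫ (Scheme.Modules.pullbackCongr hι.symm).app F ≪≫
      ((Scheme.Modules.pullbackComp m (f.fiberι (g y'))).app F).symm
  rw [(Modules.StalkModule.stalkLinearEquiv ei c).toEquiv.nontrivial_congr]
  let L := (q.fiber y').presheaf.stalk c
  let A := (f.fiber (g y')).presheaf.stalk (m c)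
  let _ : Algebra A L := (m.stalkMap c).hom.toAlgebra
  have : Module.Flat A L := Flat.stalkMap m c
  have : IsLocalHom (algebraMap A L) := inferInstanceAs (IsLocalHom (m.stalkMap c).hom)
  have : Module.FaithfullyFlat A L := .of_flat_of_isLocalHom
  let W := ((Scheme.Modules.pullback (f.fiberι (g y'))).obj F).presheaf.stalk (m c)
  have : Nontrivial W := hne
  let e : L ⊗[A] W ≃ₗ[L] ((Scheme.Modules.pullback m).obj
      ((Scheme.Modules.pullback (f.fiberι (g y'))).obj F)).presheaf.stalk c :=
    ((DerivedOX.PullbackStalk.pullbackStalkIso m c).app _).toLinearEquiv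
  exact e.symm.toEquiv.nontrivial

/-- For `M` faithfully flat relative to the target of `f`, faithful flatness of `g` is read off `M`. -/
theorem iff_flat_surjective {X Y Z : Scheme.{u}} (f : X ⟶ Y) (g : Y ⟶ Z) (F : X.Modules)
    (hF : FlatMod.IsFlatOver f F) (hFff : ∀ y : Y, ∃ x, f x = y ∧ NeTop f F x) :
    (Flat g ∧ Surjective g) ↔
      (FlatMod.IsFlatOver (f ≫ g) F ∧ ∀ z : Z, ∃ x, (f ≫ g) x = z ∧ NeTop (f ≫ g) F x) := by
  have facts : ∀ x : X,
      letI := (g.stalkMap (f x)).hom.toAlgebra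
      (Module.Flat (Z.presheaf.stalk (g (f x))) (Y.presheaf.stalk (f x)) →
        FlatMod.IsFlatOverAt (f ≫ g) F x ∧ (NeTop f F x → NeTop (f ≫ g) F x)) ∧
      (NeTop f F x → FlatMod.IsFlatOverAt (f ≫ g) F x →
        Module.Flat (Z.presheaf.stalk (g (f x))) (Y.presheaf.stalk (f x))) := by
    intro x
    let R := Z.presheaf.stalk (g (f x))
    let S := Y.presheaf.stalk (f x)
    let N := F.presheaf.stalk x
    let algRS : Algebra R S := (g.stalkMap (f x)).hom.toAlgebra
    let modSN : Module S N := FlatMod.moduleStalkOver f F x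
    let modRN : Module R N := FlatMod.moduleStalkOver (f ≫ g) F x
    have : IsScalarTower R S N := ⟨fun r s v => by
      show (f.stalkMap x).hom ((g.stalkMap (f x)).hom r * s) • v =
        ((f ≫ g).stalkMap x).hom r • (f.stalkMap x).hom s • v
      rw [map_mul, mul_smul, Scheme.Hom.stalkMap_comp]
      rfl⟩
    have : Module.Flat S N := hF x
    have : IsLocalHom (algebraMap R S) := inferInstanceAs (IsLocalHom (g.stalkMap (f x)).hom)
    obtain ⟨f1, f2⟩ := flat_tensor_iff (R := R) (S := S) (N := N) (E := S)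
    obtain ⟨g1, g2⟩ := smul_top_ne_top_iff (R := R) (S := S) (N := N) (E := S)
    let e : (N ⊗[S] S) ≃ₗ[R] N := (TensorProduct.rid S N).restrictScalars R
    have hiff : Module.Flat R N ↔ Module.Flat R (N ⊗[S] S) :=
      ⟨fun _ => Module.Flat.of_linearEquiv e, fun _ => Module.Flat.of_linearEquiv e.symm⟩
    refine ⟨fun h => ⟨hiff.mpr (f1 h), fun hne => ?_⟩, fun hne h => f2 hne (hiff.mp h)⟩
    have h1 : maximalIdeal R • (⊤ : Submodule R S) ≠ ⊤ := by
      rw [Ideal.smul_top_eq_map]
      intro htop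
      rw [Submodule.restrictScalars_eq_top_iff] at htop
      refine (maximalIdeal.isMaximal S).ne_top (top_le_iff.mp (htop.ge.trans ?_))
      exact Ideal.map_le_iff_le_comap.2 fun r hr hu => hr (isUnit_of_map_unit (algebraMap R S) r hu)
    intro htop
    apply g1 hne h1
    refine top_le_iff.mp fun v _ => ?_
    have h2 : e v ∈ maximalIdeal R • (⊤ : Submodule R N) := htop.ge trivial
    have h3 := Submodule.mem_map_of_mem (f := e.symm.toLinearMap) h2
    rw [Submodule.map_smul''] at h3
    have h4 := (Submodule.smul_mono le_rfl le_top : _ ≤ maximalIdeal R • (⊤ : Submodule R (N ⊗[S] S))) h3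
    simpa using h4
  constructor
  · rintro ⟨hgf, hgs⟩
    refine ⟨fun x => ((facts x).1 (Flat.stalkMap g (f x))).1, fun z => ?_⟩
    obtain ⟨y, rfl⟩ := g.surjective z
    obtain ⟨x, rfl, hx⟩ := hFff y
    exact ⟨x, rfl, ((facts x).1 (Flat.stalkMap g (f x))).2 hx⟩
  · rintro ⟨hfl, hne⟩
    refine ⟨Flat.iff_flat_stalkMap g |>.mpr fun y => ?_, ⟨fun z => ?_⟩⟩
    · obtain ⟨x, rfl, hx⟩ := hFff y
      exact (facts x).2 hx (hfl x)
    · obtain ⟨x, hx, -⟩ := hne z
      exact ⟨f x, hx⟩


end

end Groth.Agent.H52.FDesc.FFTensor
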