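import Groth.Agent.H52.FDesc.GenFiber

/-!
Flat extension of a quotient of the generic fibre.
-/

universe u

open CategoryTheory CategoryTheory.Limits AlgebraicGeometry
open Groth.Agent.Lib Groth.Agent.Lib.Modules.StalkModule

namespace Groth.Agent.H52.FDesc.FlatExtension

open Groth.Agent.H52.FDesc.TorsionFree Groth.Agent.H52.FDesc.GenFiber

theorem exists_flat_extension {X Y : Scheme.{u}} [IsIntegral Y]
    (hY : ∀ y : Y, IsRegularLocalRing (Y.presheaf.stalk y) ∧ ringKrullDim (Y.presheaf.stalk y) ≤ 1)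
    (f : X ⟶ Y) (F : X.Modules) (hF : Coh.IsQCoh F) (G' : (f.fiber (genericPoint Y)).Modules) (hG' : Coh.IsQCoh G')
    (π : (Scheme.Modules.pullback (f.fiberι (genericPoint Y))).obj F ⟶ G') [Epi π] :
    ∃ (G : X.Modules) (ρ : F ⟶ G) (e : (Scheme.Modules.pullback (f.fiberι (genericPoint Y))).obj G ≅ G'),
      Epi ρ ∧ Coh.IsQCoh G ∧ FlatMod.IsFlatOver f G ∧
          (Scheme.Modules.pullback (f.fiberι (genericPoint Y))).map ρ ≫ e.hom = π := by
  let i := f.fiberι (genericPoint Y)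
  have := flat_fiberι_generic f
  have := isAffineHom_fiberι_generic f
  let adj := Scheme.Modules.pullbackPushforwardAdjunction i
  let ψ := adj.homEquiv _ _ π
  have : F.IsQuasicoherent := hF
  have : G'.IsQuasicoherent := hG'
  have : ((Scheme.Modules.pushforward i).obj G').IsQuasicoherent := QCoh.Pushforward.isQCoh_pushforward (M := G') i
  have : (kernel ψ).IsQuasicoherent := QCoh.Closure.isQCoh_kernel ψ
  let G := Abelian.coimage ψ
  let ρ : F ⟶ G := Abelian.coimage.π ψ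
  let m : G ⟶ (Scheme.Modules.pushforward i).obj G' := Abelian.factorThruCoimage ψ
  have hρm : ρ ≫ m = ψ := Abelian.coimage.fac ψ
  have : Mono m := inferInstanceAs (Mono (Abelian.factorThruCoimage ψ))
  let h := (adj.homEquiv _ _).symm m
  have hh : (Scheme.Modules.pullback i).map ρ ≫ h = π := by
    rw [← adj.homEquiv_naturality_left_symm, hρm]
    exact (adj.homEquiv _ _).symm_apply_apply π
  have : Mono (adj.homEquiv _ _ h) := by
    rw [(adj.homEquiv _ _).apply_symm_apply]; infer_instance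
  have := mono_of_mono_adjunct i h
  have : Epi ((Scheme.Modules.pullback i).map ρ ≫ h) := by rw [hh]; infer_instance
  have : Epi h := epi_of_epi ((Scheme.Modules.pullback i).map ρ) h
  have : IsIso h := isIso_of_mono_of_epi h
  refine ⟨G, ρ, asIso h, inferInstanceAs (Epi (Abelian.coimage.π ψ)),
    QCoh.Closure.isQCoh_cokernel (kernel.ι ψ), fun x => ?_, hh⟩
  letI := FlatMod.moduleStalkOver f G x
  have := (hY (f x)).1
  refine flat_of_smul_ne_zero _ (hY (f x)).2 _ fun r hr n hn => ?_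
  have h0 := push_torsionFree f G' r hr (stalkMapₗ m x n) (by
    rw [← map_smul]; exact (congrArg _ hn).trans (map_zero _))
  exact (mono_iff_stalkMapₗ_injective m).mp inferInstance x (h0.trans (map_zero _).symm)

theorem unique_flat_extension {X Y : Scheme.{u}} [IsIntegral Y] (f : X ⟶ Y) (F : X.Modules)
    (G' : (f.fiber (genericPoint Y)).Modules)
    (π : (Scheme.Modules.pullback (f.fiberι (genericPoint Y))).obj F ⟶ G')
    (G₁ G₂ : X.Modules) (ρ₁ : F ⟶ G₁) (ρ₂ : F ⟶ G₂)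
    (e₁ : (Scheme.Modules.pullback (f.fiberι (genericPoint Y))).obj G₁ ≅ G')
    (e₂ : (Scheme.Modules.pullback (f.fiberι (genericPoint Y))).obj G₂ ≅ G')
    [Epi ρ₁] [Epi ρ₂] [G₁.IsQuasicoherent] [G₂.IsQuasicoherent]
    (h₁ : FlatMod.IsFlatOver f G₁) (h₂ : FlatMod.IsFlatOver f G₂)
    (he₁ : (Scheme.Modules.pullback (f.fiberι (genericPoint Y))).map ρ₁ ≫ e₁.hom = π)
    (he₂ : (Scheme.Modules.pullback (f.fiberι (genericPoint Y))).map ρ₂ ≫ e₂.hom = π) :
    ∃ e : G₁ ≅ G₂, ρ₁ ≫ e.hom = ρ₂ := by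
  let adj := Scheme.Modules.pullbackPushforwardAdjunction (f.fiberι (genericPoint Y))
  have := mono_adjunct f h₁ G' e₁.hom
  have := mono_adjunct f h₂ G' e₂.hom
  have e : ρ₁ ≫ adj.homEquiv _ _ e₁.hom = ρ₂ ≫ adj.homEquiv _ _ e₂.hom := by
    rw [← adj.homEquiv_naturality_left, ← adj.homEquiv_naturality_left, he₁, he₂]
  have k₁ : kernel.ι ρ₁ ≫ ρ₂ = 0 := by
    rw [← cancel_mono (adj.homEquiv _ _ e₂.hom), Category.assoc, ← e, kernel.condition_assoc, zero_comp,
      zero_comp]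
  have k₂ : kernel.ι ρ₂ ≫ ρ₁ = 0 := by
    rw [← cancel_mono (adj.homEquiv _ _ e₁.hom), Category.assoc, e, kernel.condition_assoc, zero_comp,
      zero_comp]
  refine ⟨⟨Abelian.epiDesc ρ₁ ρ₂ k₁, Abelian.epiDesc ρ₂ ρ₁ k₂, ?_, ?_⟩, Abelian.comp_epiDesc _ _ _⟩
  · rw [← cancel_epi ρ₁, Abelian.comp_epiDesc_assoc, Abelian.comp_epiDesc, Category.comp_id]
  · rw [← cancel_epi ρ₂, Abelian.comp_epiDesc_assoc, Abelian.comp_epiDesc, Category.comp_id]

end Groth.Agent.H52.FDesc.FlatExtension
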