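import Groth.Prelude.Def_FlatMod2
import Groth.Agent.Lib.DerivedOX.PullbackStalk
import Mathlib.RingTheory.Flat.FaithfullyFlat.Algebra
import Mathlib.AlgebraicGeometry.Morphisms.Flat

/-!
Flatness of `f^* G` over a base, in terms of the stalks of `G`.
-/

universe u

open CategoryTheory AlgebraicGeometry TensorProduct

namespace Groth.Agent.H52.FDesc.PullbackFlat

noncomputable section

section Assoc

variable {R A B G : Type u} [CommRing R] [CommRing A] [CommRing B] [Algebra A B]
  [AddCommGroup G] [Module A G] [Module R G] [SMulCommClass R A G] [Module R (B ⊗[A] G)]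
  (hsmul : ∀ (r : R) (b : B) (g : G), r • (b ⊗ₜ[A] g) = b ⊗ₜ[A] (r • g))
  (N : Type u) [AddCommGroup N] [Module R N]

/-- One `(b, g, n) ↦ b ⊗ (g ⊗ n)`. -/
def inner (b : B) (g : G) : N →+ B ⊗[A] (G ⊗[R] N) :=
  AddMonoidHom.mk' (fun n : N => b ⊗ₜ[A] (g ⊗ₜ[R] n))
    (fun x y => by rw [TensorProduct.tmul_add, TensorProduct.tmul_add])

include hsmul in
theorem exists_assoc : ∃ e : (B ⊗[A] G) ⊗[R] N ≃+ B ⊗[A] (G ⊗[R] N),
    ∀ (b : B) (g : G) (n : N), e ((b ⊗ₜ g) ⊗ₜ n) = b ⊗ₜ (g ⊗ₜ n) := by
  let f1 : B ⊗[A] G →+ (N →+ B ⊗[A] (G ⊗[R] N)) :=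
    TensorProduct.liftAddHom
      (AddMonoidHom.mk' (fun b : B => AddMonoidHom.mk' (fun g : G => inner N b g)
          (fun x y => by ext n; simp [inner, TensorProduct.add_tmul, TensorProduct.tmul_add]))
        (fun x y => by ext g n; simp [inner, TensorProduct.add_tmul]))
      (fun a b g => by
        ext n
        show (a • b) ⊗ₜ[A] (g ⊗ₜ[R] n) = b ⊗ₜ[A] ((a • g) ⊗ₜ[R] n)
        rw [TensorProduct.smul_tmul, TensorProduct.smul_tmul'])
  have f1s : ∀ (r : R) z n, f1 (r • z) n = f1 z (r • n) := by
    intro r z n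
    induction z using TensorProduct.induction_on with
    | zero => simp
    | tmul b g =>
      rw [hsmul]
      show b ⊗ₜ[A] ((r • g) ⊗ₜ[R] n) = b ⊗ₜ[A] (g ⊗ₜ[R] (r • n))
      rw [TensorProduct.smul_tmul]
    | add x y hx hy => simp only [smul_add, map_add, AddMonoidHom.add_apply, hx, hy]
  let fwd : (B ⊗[A] G) ⊗[R] N →+ B ⊗[A] (G ⊗[R] N) := TensorProduct.liftAddHom f1 f1s
  let g1 : B → (G →+ N →+ (B ⊗[A] G) ⊗[R] N) := fun b =>
    AddMonoidHom.mk' (fun g : G => AddMonoidHom.mk' (fun n : N => (b ⊗ₜ[A] g) ⊗ₜ[R] n)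
      (fun x y => by rw [TensorProduct.tmul_add]))
      (fun x y => by ext n; simp [TensorProduct.add_tmul, TensorProduct.tmul_add])
  have g1s : ∀ b (r : R) g n, g1 b (r • g) n = g1 b g (r • n) := fun b r g n => by
    show (b ⊗ₜ[A] (r • g)) ⊗ₜ[R] n = (b ⊗ₜ[A] g) ⊗ₜ[R] (r • n)
    rw [← hsmul, TensorProduct.smul_tmul]
  let g2 : B →+ (G ⊗[R] N →+ (B ⊗[A] G) ⊗[R] N) :=
    { toFun := fun b : B => TensorProduct.liftAddHom (g1 b) (g1s b)
      map_zero' := by
        ext z
        induction z using TensorProduct.induction_on with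
        | zero => simp
        | tmul g n =>
          show ((0 : B) ⊗ₜ[A] g) ⊗ₜ[R] n = 0
          rw [TensorProduct.zero_tmul, TensorProduct.zero_tmul]
        | add a b ha hb => simp only [map_add, ha, hb, add_zero, AddMonoidHom.zero_apply]
      map_add' := fun x y => by
        ext z
        induction z using TensorProduct.induction_on with
        | zero => simp
        | tmul g n =>
          show ((x + y) ⊗ₜ[A] g) ⊗ₜ[R] n = (x ⊗ₜ[A] g) ⊗ₜ[R] n + (y ⊗ₜ[A] g) ⊗ₜ[R] n
          rw [TensorProduct.add_tmul, TensorProduct.add_tmul]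
        | add a b ha hb =>
          simp only [map_add, AddMonoidHom.add_apply] at ha hb ⊢
          rw [ha, hb] }
  have g2s : ∀ (a : A) b z, g2 (a • b) z = g2 b (a • z) := by
    intro a b z
    induction z using TensorProduct.induction_on with
    | zero => simp
    | tmul g n =>
      rw [TensorProduct.smul_tmul']
      show ((a • b) ⊗ₜ[A] g) ⊗ₜ[R] n = (b ⊗ₜ[A] (a • g)) ⊗ₜ[R] n
      rw [TensorProduct.smul_tmul]
    | add x y hx hy => simp only [smul_add, map_add, hx, hy]
  let bwd : B ⊗[A] (G ⊗[R] N) →+ (B ⊗[A] G) ⊗[R] N := TensorProduct.liftAddHom g2 g2s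
  refine ⟨{ fwd with invFun := bwd, left_inv := fun z => ?_, right_inv := fun z => ?_ }, fun b g n => rfl⟩
  · show bwd (fwd z) = z
    induction z using TensorProduct.induction_on with
    | zero => simp
    | tmul w n =>
      induction w using TensorProduct.induction_on with
      | zero => simp
      | tmul b g => rfl
      | add x y hx hy => simp only [TensorProduct.add_tmul, map_add, hx, hy]
    | add x y hx hy => simp only [map_add, hx, hy]
  · show fwd (bwd z) = z
    induction z using TensorProduct.induction_on with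
    | zero => simp
    | tmul b w =>
      induction w using TensorProduct.induction_on with
      | zero => simp
      | tmul g n => rfl
      | add x y hx hy => simp only [TensorProduct.tmul_add, map_add, hx, hy]
    | add x y hx hy => simp only [map_add, hx, hy]

end Assoc

section

variable {R A B G : Type u} [CommRing R] [CommRing A] [CommRing B] [Algebra A B]
  [AddCommGroup G] [Module A G] [Module R G] [SMulCommClass R A G] [Module R (B ⊗[A] G)]
  (hsmul : ∀ (r : R) (b : B) (g : G), r • (b ⊗ₜ[A] g) = b ⊗ₜ[A] (r • g))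

include hsmul in
theorem exists_lTensor_iff (N N' : Type u) [AddCommGroup N] [Module R N] [AddCommGroup N'] [Module R N']
    (f : N →ₗ[R] N') : ∃ φ : G ⊗[R] N →ₗ[A] G ⊗[R] N',
      (∀ z, φ z = f.lTensor G z) ∧
      (Function.Injective (f.lTensor (B ⊗[A] G)) ↔ Function.Injective (φ.lTensor B)) := by
  let φ : G ⊗[R] N →ₗ[A] G ⊗[R] N' :=
    { toFun := f.lTensor G
      map_add' := map_add _
      map_smul' := fun a z => by
        induction z using TensorProduct.induction_on with
        | zero => simp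
        | tmul g n => simp [TensorProduct.smul_tmul']
        | add x y hx hy => simp only [smul_add, map_add, hx, hy, RingHom.id_apply] }
  obtain ⟨e, he⟩ := exists_assoc hsmul N
  obtain ⟨e', he'⟩ := exists_assoc hsmul N'
  have hnat : ∀ z, e' (f.lTensor (B ⊗[A] G) z) = φ.lTensor B (e z) := by
    intro z
    induction z using TensorProduct.induction_on with
    | zero => simp
    | tmul w n =>
      induction w using TensorProduct.induction_on with
      | zero => simp
      | tmul b g => simp [φ, he, he']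
      | add x y hx hy => simp only [TensorProduct.add_tmul, map_add, hx, hy]
    | add x y hx hy => simp only [map_add, hx, hy]
  refine ⟨φ, fun _ => rfl, fun h a b hab => ?_, fun h a b hab => ?_⟩
  · obtain ⟨a, rfl⟩ := e.surjective a
    obtain ⟨b, rfl⟩ := e.surjective b
    rw [← hnat, ← hnat] at hab
    rw [h (e'.injective hab)]
  · exact e.injective (h (by rw [← hnat, ← hnat, hab]))

include hsmul in
/-- Base change along a flat algebra preserves flatness over a base ring. -/
theorem flat_tensor [Module.Flat A B] (h : Module.Flat R G) : Module.Flat R (B ⊗[A] G) := by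
  rw [Module.Flat.iff_lTensor_preserves_injective_linearMap] at h ⊢
  intro N N' _ _ _ _ f hf
  obtain ⟨φ, hφ, hi⟩ := exists_lTensor_iff hsmul N N' f
  have h1 : Function.Injective φ := fun a b hab => h f hf (by rw [← hφ, ← hφ, hab])
  exact hi.mpr (Module.Flat.lTensor_preserves_injective_linearMap φ h1)

include hsmul in
/-- Base change along a faithfully flat algebra reflects flatness over a base ring. -/
theorem flat_tensor_iff [Module.FaithfullyFlat A B] :
    Module.Flat R (B ⊗[A] G) ↔ Module.Flat R G := by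
  refine ⟨fun h => ?_, flat_tensor hsmul⟩
  rw [Module.Flat.iff_lTensor_preserves_injective_linearMap] at h ⊢
  intro N N' _ _ _ _ f hf
  obtain ⟨φ, hφ, hi⟩ := exists_lTensor_iff hsmul N N' f
  have h1 : Function.Injective φ :=
    (Module.FaithfullyFlat.lTensor_injective_iff_injective A B φ).mp (hi.mp (h f hf))
  exact fun a b hab => h1 (by rw [hφ, hφ, hab])

end

variable {X Y Z : Scheme.{u}}

open Groth.Agent.Lib.DerivedOX.PullbackStalk Groth.Agent.Lib.Modules in
theorem isFlatOverAt_pullback_iff (f : X ⟶ Y) (g : Y ⟶ Z) [Flat f] (G : Y.Modules) (x : X) :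
    FlatMod.IsFlatOverAt (f ≫ g) ((Scheme.Modules.pullback f).obj G) x ↔
      FlatMod.IsFlatOverAt g G (f x) := by
  let A := Y.presheaf.stalk (f x)
  let B := X.presheaf.stalk x
  let R := Z.presheaf.stalk (g (f x))
  let _ : Algebra A B := (f.stalkMap x).hom.toAlgebra
  have : Module.Flat A B := Flat.stalkMap f x
  have : IsLocalHom (algebraMap A B) := inferInstanceAs (IsLocalHom (f.stalkMap x).hom)
  have : Module.FaithfullyFlat A B := .of_flat_of_isLocalHom
  let W := G.presheaf.stalk (f x)
  let _ : Module R W := FlatMod.moduleStalkOver g G (f x)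
  have : SMulCommClass R A W := ⟨fun r a w => by
    show (g.stalkMap (f x)).hom r • (a • w) = a • ((g.stalkMap (f x)).hom r • w)
    rw [smul_comm]⟩
  let ψ : R →+* B := (f.stalkMap x).hom.comp (g.stalkMap (f x)).hom
  let _ : Module R (B ⊗[A] W) := Module.compHom _ ψ
  have hsmul : ∀ (r : R) (b : B) (w : W), r • (b ⊗ₜ[A] w) = b ⊗ₜ[A] (r • w) := fun r b w => by
    show (algebraMap A B ((g.stalkMap (f x)).hom r) • b) ⊗ₜ[A] w = _
    rw [algebraMap_smul, TensorProduct.smul_tmul]
    rfl
  let V := ((Scheme.Modules.pullback f).obj G).presheaf.stalk x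
  let _ : Module R V := FlatMod.moduleStalkOver (f ≫ g) ((Scheme.Modules.pullback f).obj G) x
  let e : B ⊗[A] W ≃ₗ[B] V := ((pullbackStalkIso f x).app G).toLinearEquiv
  have hψ : ((f ≫ g).stalkMap x).hom = ψ := by
    rw [Scheme.Hom.stalkMap_comp]; rfl
  let eR : (B ⊗[A] W) ≃ₗ[R] V :=
    { e with
      map_smul' := fun r z => by
        show e (ψ r • z) = ((f ≫ g).stalkMap x).hom r • e z
        rw [map_smul, hψ]; rfl }
  show Module.Flat R V ↔ Module.Flat R W
  rw [← flat_tensor_iff (R := R) (A := A) (B := B) (G := W) hsmul]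
  exact ⟨fun _ => Module.Flat.of_linearEquiv eR, fun _ => Module.Flat.of_linearEquiv eR.symm⟩

theorem isFlatOver_pullback_iff (f : X ⟶ Y) (g : Y ⟶ Z) [Flat f] [Surjective f] (G : Y.Modules) :
    FlatMod.IsFlatOver (f ≫ g) ((Scheme.Modules.pullback f).obj G) ↔ FlatMod.IsFlatOver g G := by
  refine ⟨fun h y => ?_, fun h x => (isFlatOverAt_pullback_iff f g G x).mpr (h (f x))⟩
  obtain ⟨x, rfl⟩ := f.surjective y
  exact (isFlatOverAt_pullback_iff f g G x).mp (h x)

end

end Groth.Agent.H52.FDesc.PullbackFlat
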