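import Groth.Prelude.Def_TwC
import Groth.Agent.Lib.EtSite.FieldExt
import Groth.Agent.Lib.DescAlg.Descends
import Groth.Agent.H52.FDesc.EmbDescent
import Mathlib.AlgebraicGeometry.Limits
import Mathlib.AlgebraicGeometry.Morphisms.Finite
import Mathlib.AlgebraicGeometry.Morphisms.Etale
import Mathlib.AlgebraicGeometry.Morphisms.QuasiFinite
import Mathlib.AlgebraicGeometry.Noetherian

/-!
Quasi-compact closed subschemes of twisted constant schemes are finite.
-/

universe u

open CategoryTheory CategoryTheory.Limits AlgebraicGeometry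

namespace Groth.Agent.H52.FDesc.TwConstFinite

/-- `p` is a disjoint union of sections. -/
structure IsConstLike {C T : Scheme.{u}} (p : C ⟶ T) (M : Type u) (j : M → (T ⟶ C)) : Prop where
  isOpen : ∀ m, IsOpenImmersion (j m)
  sect : ∀ m, j m ≫ p = 𝟙 T
  cover : ∀ c : C, ∃ (m : M) (t : T), j m t = c
  disj : ∀ m m' (t t' : T), j m t = j m' t' → m = m'

theorem isFinite_sigmaDesc {T : Scheme.{u}} [IsAffine T] {ι : Type u} [Finite ι]
    {W : ι → Scheme.{u}} [∀ i, IsAffine (W i)] (q : ∀ i, W i ⟶ T) [∀ i, IsFinite (q i)] :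
    IsFinite (Sigma.desc q) := by
  let φ : ∀ i, Γ(T, ⊤) →+* Γ(W i, ⊤) := fun i ↦ (q i).appTop.hom
  have hφ : (RingHom.pi φ).Finite := by
    let := fun i ↦ (φ i).toAlgebra
    have : ∀ i, Module.Finite Γ(T, ⊤) Γ(W i, ⊤) := fun i ↦ (q i).finite_appTop
    exact RingHom.finite_algebraMap.2 (inferInstanceAs (Module.Finite Γ(T, ⊤) (∀ i, Γ(W i, ⊤))))
  have : IsFinite (Spec.map (CommRingCat.ofHom (RingHom.pi φ))) := (IsFinite.SpecMap_iff _).2 hφ
  have e : Sigma.desc q = (Sigma.mapIso fun i ↦ (W i).isoSpec).hom ≫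
      sigmaSpec (fun i ↦ Γ(W i, ⊤)) ≫ Spec.map (CommRingCat.ofHom (RingHom.pi φ)) ≫ T.isoSpec.inv := by
    refine Sigma.hom_ext _ _ fun i ↦ ?_
    rw [Sigma.ι_desc, show (Sigma.mapIso fun i ↦ (W i).isoSpec).hom =
      Limits.Sigma.map (fun i ↦ (W i).isoSpec.hom) from rfl, Limits.Sigma.ι_map_assoc, ι_sigmaSpec_assoc,
      ← Spec.map_comp_assoc]
    have : CommRingCat.ofHom (RingHom.pi φ) ≫
        CommRingCat.ofHom (Pi.evalRingHom (fun i ↦ Γ(W i, ⊤)) i) = (q i).appTop := by
      ext x; rfl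
    rw [this, Scheme.isoSpec_hom_naturality_assoc, Iso.hom_inv_id, Category.comp_id]
  rw [e]
  infer_instance

theorem IsConstLike.isFinite {C T Z : Scheme.{u}} {p : C ⟶ T} {M : Type u} {j : M → (T ⟶ C)}
    (h : IsConstLike p M j) [IsAffine T] (q : Z ⟶ C) [IsClosedImmersion q] [QuasiCompact (q ≫ p)] :
    IsFinite (q ≫ p) := by
  have := h.isOpen
  have : CompactSpace Z := QuasiCompact.compactSpace_of_compactSpace (q ≫ p)
  obtain ⟨F, hF⟩ := isCompact_univ.elim_finite_subcover (fun m => ((pullback.fst q (j m)).opensRange : Set Z))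
    (fun m => (pullback.fst q (j m)).opensRange.2) fun z _ => by
      obtain ⟨m, t, ht⟩ := h.cover (q z)
      obtain ⟨w, hw, -⟩ := Scheme.Pullback.exists_preimage_pullback (f := q) (g := j m) z t ht.symm
      exact Set.mem_iUnion.mpr ⟨m, w, hw⟩
  let α : ∀ m : F, pullback q (j m) ⟶ Z := fun m => pullback.fst q (j m)
  have : IsOpenImmersion (Sigma.desc α) := isOpenImmersion_sigmaDesc _ α fun a b hab => by
    rw [Function.onFun, Set.disjoint_left]
    rintro _ ⟨x, rfl⟩ ⟨y, hy⟩
    refine hab (Subtype.ext (h.disj a b (pullback.snd q (j a) x) (pullback.snd q (j b) y) ?_))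
    rw [← Scheme.Hom.comp_apply, ← Scheme.Hom.comp_apply, ← pullback.condition, ← pullback.condition,
      Scheme.Hom.comp_apply, Scheme.Hom.comp_apply]
    exact congrArg q hy.symm
  have : IsIso (Sigma.desc α) := by
    apply isIso_of_isOpenImmersion_of_opensRange_eq_top
    rw [eq_top_iff]
    intro z _
    obtain ⟨m, hm, w, hw⟩ := Set.mem_iUnion₂.mp (hF (Set.mem_univ z))
    refine ⟨Sigma.ι (fun m : F => pullback q (j m)) ⟨m, hm⟩ w, ?_⟩
    rw [← Scheme.Hom.comp_apply, Sigma.ι_desc]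
    exact hw
  have (m : F) : IsAffine (pullback q (j m)) := isAffine_of_isAffineHom (pullback.snd q (j m))
  have heq : Sigma.desc α ≫ q ≫ p = Sigma.desc fun m : F => pullback.snd q (j m) :=
    Sigma.hom_ext _ _ fun m => by
      rw [Sigma.ι_desc_assoc, Sigma.ι_desc, pullback.condition_assoc, h.sect, Category.comp_id]
  have := isFinite_sigmaDesc fun m : F => pullback.snd q (j m)
  rw [← heq] at this
  exact (MorphismProperty.cancel_left_of_respectsIso @IsFinite (Sigma.desc α) (q ≫ p)).mp this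

theorem IsConstLike.baseChange {C U T : Scheme.{u}} {p : C ⟶ U} {M : Type u} {j : M → (U ⟶ C)}
    (h : IsConstLike p M j) (g : T ⟶ U) :
    IsConstLike (pullback.snd p g) M fun m => pullback.lift (g ≫ j m) (𝟙 T)
      (by rw [Category.assoc, h.sect, Category.comp_id, Category.id_comp]) := by
  have := h.isOpen
  have top : ∀ m, IsPullback g (pullback.lift (g ≫ j m) (𝟙 T)
      (by rw [Category.assoc, h.sect, Category.comp_id, Category.id_comp])) (j m) (pullback.fst p g) := by
    intro m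
    refine IsPullback.of_bot ?_ (pullback.lift_fst _ _ _).symm (IsPullback.of_hasPullback p g)
    rw [pullback.lift_snd, h.sect]
    exact IsPullback.of_vert_isIso ⟨by rw [Category.id_comp, Category.comp_id]⟩
  refine ⟨fun m => MorphismProperty.of_isPullback (top m) (h.isOpen m), fun m => pullback.lift_snd _ _ _,
    fun c => ?_, fun m m' t t' e => ?_⟩
  · obtain ⟨m, u, hu⟩ := h.cover (pullback.fst p g c)
    obtain ⟨x', -, hx'⟩ := Groth.Agent.H52.FDesc.EmbDescent.exists_lift (top m) (x := c) (y' := u) hu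
    exact ⟨m, x', hx'⟩
  · apply h.disj m m' (g t) (g t')
    have e' := congrArg (pullback.fst p g) e
    rw [← Scheme.Hom.comp_apply, ← Scheme.Hom.comp_apply, pullback.lift_fst, pullback.lift_fst] at e'
    exact e'

theorem isConstLike_const (T : Scheme.{u}) (M : Type u) :
    IsConstLike (TwC.const T M).hom M (fun m => Sigma.ι (fun _ : M => T) m) := by
  refine ⟨fun m => inferInstance, fun m => Sigma.ι_desc _ _, fun c => ?_, fun m m' t t' e => ?_⟩
  · obtain ⟨m, t, ht⟩ := (sigmaOpenCover fun _ : M => T).exists_eq c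
    exact ⟨m, t, ht⟩
  · by_contra hne
    exact Set.disjoint_left.mp (TopologicalSpace.Opens.coe_disjoint.mpr
      (disjoint_opensRange_sigmaι (fun _ : M => T) m m' hne)) ⟨t, rfl⟩ ⟨t', e.symm⟩

theorem IsConstLike.of_iso {C C' T : Scheme.{u}} {p : C ⟶ T} {p' : C' ⟶ T} {M : Type u} {j : M → (T ⟶ C)}
    (h : IsConstLike p M j) (e : C ≅ C') (he : e.hom ≫ p' = p) :
    IsConstLike p' M fun m => j m ≫ e.hom := by
  have := h.isOpen
  refine ⟨fun m => inferInstance, fun m => by rw [Category.assoc, he, h.sect], fun c => ?_,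
    fun m m' t t' hh => h.disj m m' t t' (e.hom.isEmbedding.injective (by simpa using hh))⟩
  obtain ⟨m, t, ht⟩ := h.cover (e.inv c)
  refine ⟨m, t, ?_⟩
  rw [Scheme.Hom.comp_apply, ht, ← Scheme.Hom.comp_apply, e.inv_hom_id]
  rfl

theorem isFinite_pullback {S Z U T : Scheme.{u}} {R : Over S} (z : Z ⟶ R.left) [IsClosedImmersion z]
    [QuasiCompact (z ≫ R.hom)] (g : U ⟶ S) {I : Type u} (e : Red.bc g R ≅ TwC.const U I)
    [IsAffine T] (k : T ⟶ U) : IsFinite (pullback.snd (z ≫ R.hom) (k ≫ g)) := by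
  have h0 : IsConstLike (pullback.snd R.hom g) I fun m => Sigma.ι (fun _ : I => U) m ≫ e.inv.left :=
    (isConstLike_const U I).of_iso ((Over.forget U).mapIso e.symm) (Over.w e.inv)
  have h1 := (h0.baseChange k).of_iso (pullbackLeftPullbackSndIso R.hom g k)
    (pullbackLeftPullbackSndIso_hom_snd R.hom g k)
  let q : pullback (z ≫ R.hom) (k ≫ g) ⟶ pullback R.hom (k ≫ g) :=
    pullback.lift (pullback.fst _ _ ≫ z) (pullback.snd _ _) (by rw [Category.assoc, pullback.condition])
  have hq : IsClosedImmersion q := by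
    have sq : IsPullback (pullback.fst (z ≫ R.hom) (k ≫ g)) q z (pullback.fst R.hom (k ≫ g)) := by
      refine IsPullback.of_bot ?_ (pullback.lift_fst _ _ _).symm (IsPullback.of_hasPullback R.hom (k ≫ g))
      rw [pullback.lift_snd]
      exact IsPullback.of_hasPullback (z ≫ R.hom) (k ≫ g)
    exact MorphismProperty.of_isPullback sq ‹_›
  have hqs : q ≫ pullback.snd R.hom (k ≫ g) = pullback.snd (z ≫ R.hom) (k ≫ g) := pullback.lift_snd _ _ _
  rw [← hqs]
  have : QuasiCompact (q ≫ pullback.snd R.hom (k ≫ g)) := by rw [hqs]; infer_instance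
  exact h1.isFinite q

theorem isFinite_of_isTwConst {S Z : Scheme.{u}} (R : Over S) (hR : TwC.IsTwConst TwC.Topology.fpqc R)
    (z : Z ⟶ R.left) [IsClosedImmersion z] [QuasiCompact (z ≫ R.hom)] : IsFinite (z ≫ R.hom) := by
  obtain ⟨S', f, hf, hfs, hlift, hloc⟩ := hR
  rw [IsZariskiLocalAtTarget.iff_of_iSup_eq_top (P := @IsFinite) _ (iSup_affineOpens_eq_top S)]
  intro V
  obtain ⟨W, hWc, hWV⟩ := hlift V.1 V.2
  choose U hsU hU using hloc
  choose T hT hsT hTle using fun w : W =>
    exists_isAffineOpen_mem_and_subset (x := w.1) (U := U w.1 ⊓ W) ⟨hsU w.1, w.2⟩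
  obtain ⟨F, hF⟩ := hWc.elim_finite_subcover (fun w : W => (T w : Set S')) (fun w => (T w).2)
    fun x hx => Set.mem_iUnion.mpr ⟨⟨x, hx⟩, hsT ⟨x, hx⟩⟩
  have (w : F) : IsAffine (T w.1 : Scheme.{u}) := hT w.1
  let G : (∐ fun w : F => (T w.1 : Scheme.{u})) ⟶ (V.1 : Scheme.{u}) :=
    Sigma.desc fun w => IsOpenImmersion.lift V.1.ι ((T w.1).ι ≫ f) (by
      rintro _ ⟨t, rfl⟩
      rw [Scheme.Opens.range_ι, ← hWV]
      exact ⟨t.1, (hTle w.1 t.2).2, rfl⟩)
  have : IsAffine (V.1 : Scheme.{u}) := V.2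
  have : Flat G := by
    refine IsZariskiLocalAtSource.sigmaDesc (P := @Flat) fun w => ?_
    have : Flat (IsOpenImmersion.lift V.1.ι ((T w.1).ι ≫ f) (by
      rintro _ ⟨t, rfl⟩
      rw [Scheme.Opens.range_ι, ← hWV]
      exact ⟨t.1, (hTle w.1 t.2).2, rfl⟩) ≫ V.1.ι) := by
      rw [IsOpenImmersion.lift_fac]; infer_instance
    exact MorphismProperty.of_postcomp (W := @Flat) (W' := @IsOpenImmersion) _ V.1.ι inferInstance this
  have : Surjective G := ⟨fun v => by
    obtain ⟨x, hx, hxv⟩ := hWV.ge (show (v.1 : S) ∈ (V.1 : Set S) from v.2)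
    obtain ⟨w, hw, hxw⟩ := Set.mem_iUnion₂.mp (hF hx)
    refine ⟨Sigma.ι (fun w : F => (T w.1 : Scheme.{u})) ⟨w, hw⟩ ⟨x, hxw⟩, V.1.ι.isOpenEmbedding.injective ?_⟩
    rw [← Scheme.Hom.comp_apply, ← Scheme.Hom.comp_apply]
    simp only [G, Sigma.ι_desc_assoc, IsOpenImmersion.lift_fac]
    exact hxv⟩
  have : CompactSpace ↑(∐ fun w : F => (T w.1 : Scheme.{u})) := inferInstance
  have : QuasiCompact G := (quasiCompact_iff_compactSpace _).mpr inferInstance
  have key : IsFinite (pullback.snd ((z ≫ R.hom) ∣_ V.1) G) := by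
    rw [IsZariskiLocalAtTarget.iff_of_openCover (P := @IsFinite) (sigmaOpenCover fun w : F => (T w.1 : Scheme.{u}))]
    intro w
    obtain ⟨I, ⟨e⟩⟩ := hU w.1.1
    have hk : Scheme.homOfLE S' ((hTle w.1).trans inf_le_left) ≫ (U w.1.1).ι ≫ f =
        Sigma.ι (fun w : F => (T w.1 : Scheme.{u})) w ≫ G ≫ V.1.ι := by
      rw [Sigma.ι_desc_assoc, IsOpenImmersion.lift_fac, Scheme.homOfLE_ι_assoc]
    have hfin := isFinite_pullback z ((U w.1.1).ι ≫ f) e (Scheme.homOfLE S' ((hTle w.1).trans inf_le_left))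
    have hbig : IsPullback (pullback.fst _ _ ≫ pullback.fst ((z ≫ R.hom) ∣_ V.1) G ≫ ((z ≫ R.hom) ⁻¹ᵁ V.1).ι)
        (pullback.snd (pullback.snd ((z ≫ R.hom) ∣_ V.1) G) (Sigma.ι (fun w : F => (T w.1 : Scheme.{u})) w))
        (z ≫ R.hom) (Scheme.homOfLE S' ((hTle w.1).trans inf_le_left) ≫ (U w.1.1).ι ≫ f) := by
      rw [hk]
      exact (IsPullback.of_hasPullback _ _).paste_horiz
        ((IsPullback.of_hasPullback _ _).paste_horiz (isPullback_morphismRestrict (z ≫ R.hom) V.1).flip)
    show IsFinite (pullback.snd (pullback.snd ((z ≫ R.hom) ∣_ V.1) G) _)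
    refine (congrArg IsFinite hbig.isoPullback_hom_snd.symm).mpr ?_
    exact (MorphismProperty.cancel_left_of_respectsIso @IsFinite hbig.isoPullback.hom _).mpr hfin
  exact MorphismProperty.of_pullback_snd_of_descendsAlong (P := @IsFinite) (Q := @Surjective ⊓ @Flat ⊓ @QuasiCompact)
    ⟨⟨‹_›, ‹_›⟩, ‹_›⟩ key

/-- Finiteness can be checked on a jointly surjective family of flat open maps from affines. -/
theorem isFinite_of_local {S Z : Scheme.{u}} (h : Z ⟶ S)
    (hloc : ∀ s : S, ∀ V : S.Opens, s ∈ V → ∃ (T : Scheme.{u}) (g : T ⟶ S), IsAffine T ∧ Flat g ∧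
      IsOpen (Set.range g) ∧ s ∈ Set.range g ∧ Set.range g ⊆ (V : Set S) ∧ IsFinite (pullback.snd h g)) :
    IsFinite h := by
  rw [IsZariskiLocalAtTarget.iff_of_iSup_eq_top (P := @IsFinite) _ (iSup_affineOpens_eq_top S)]
  intro V
  choose T g hT hg hop hmem hle hfin using fun s : V.1 => hloc s.1 V.1 s.2
  obtain ⟨F, hF⟩ := V.2.isCompact.elim_finite_subcover (fun s : V.1 => Set.range (g s)) hop
    fun x hx => Set.mem_iUnion.mpr ⟨⟨x, hx⟩, hmem ⟨x, hx⟩⟩
  have (w : F) : IsAffine (T w.1) := hT w.1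
  have hlift (w : F) : Set.range (g w.1) ⊆ Set.range V.1.ι := by
    rw [Scheme.Opens.range_ι]; exact hle w.1
  let G : (∐ fun w : F => T w.1) ⟶ (V.1 : Scheme.{u}) :=
    Sigma.desc fun w => IsOpenImmersion.lift V.1.ι (g w.1) (hlift w)
  have : IsAffine (V.1 : Scheme.{u}) := V.2
  have : Flat G := by
    refine IsZariskiLocalAtSource.sigmaDesc (P := @Flat) fun w => ?_
    have : Flat (IsOpenImmersion.lift V.1.ι (g w.1) (hlift w) ≫ V.1.ι) := by
      rw [IsOpenImmersion.lift_fac]; exact hg w.1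
    exact MorphismProperty.of_postcomp (W := @Flat) (W' := @IsOpenImmersion) _ V.1.ι inferInstance this
  have : Surjective G := ⟨fun v => by
    obtain ⟨w, hw, x, hxv⟩ := Set.mem_iUnion₂.mp (hF (show (v.1 : S) ∈ (V.1 : Set S) from v.2))
    refine ⟨Sigma.ι (fun w : F => T w.1) ⟨w, hw⟩ x, V.1.ι.isOpenEmbedding.injective ?_⟩
    rw [← Scheme.Hom.comp_apply, ← Scheme.Hom.comp_apply]
    simp only [G, Sigma.ι_desc_assoc, IsOpenImmersion.lift_fac]
    exact hxv⟩
  have : QuasiCompact G := (quasiCompact_iff_compactSpace _).mpr inferInstance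
  have key : IsFinite (pullback.snd (h ∣_ V.1) G) := by
    rw [IsZariskiLocalAtTarget.iff_of_openCover (P := @IsFinite) (sigmaOpenCover fun w : F => T w.1)]
    intro w
    have hbig : IsPullback (pullback.fst _ _ ≫ pullback.fst (h ∣_ V.1) G ≫ (h ⁻¹ᵁ V.1).ι)
        (pullback.snd (pullback.snd (h ∣_ V.1) G) (Sigma.ι (fun w : F => T w.1) w)) h (g w.1) := by
      rw [show g w.1 = Sigma.ι (fun w : F => T w.1) w ≫ G ≫ V.1.ι by
        simp only [G, Sigma.ι_desc_assoc, IsOpenImmersion.lift_fac]]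
      exact (IsPullback.of_hasPullback _ _).paste_horiz
        ((IsPullback.of_hasPullback _ _).paste_horiz (isPullback_morphismRestrict h V.1).flip)
    show IsFinite (pullback.snd (pullback.snd (h ∣_ V.1) G) _)
    refine (congrArg IsFinite hbig.isoPullback_hom_snd.symm).mpr ?_
    exact (MorphismProperty.cancel_left_of_respectsIso @IsFinite hbig.isoPullback.hom _).mpr (hfin w.1)
  exact MorphismProperty.of_pullback_snd_of_descendsAlong (P := @IsFinite) (Q := @Surjective ⊓ @Flat ⊓ @QuasiCompact)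
    ⟨⟨‹_›, ‹_›⟩, ‹_›⟩ key

theorem locally_eq_of_noetherianSpace {T : Scheme.{u}} [TopologicalSpace.NoetherianSpace T] {M : Type*}
    (O : M → Set T) (hO : ∀ m, IsClopen (O m)) (t : T) :
    ∃ W : Set T, IsOpen W ∧ t ∈ W ∧ ∀ t' ∈ W, ∀ m, t' ∈ O m ↔ t ∈ O m := by
  let B := {A ∈ irreducibleComponents T | t ∉ A}
  have hB : B.Finite := TopologicalSpace.NoetherianSpace.finite_irreducibleComponents.subset fun A hA => hA.1
  refine ⟨(⋃ A ∈ B, A)ᶜ, (hB.isClosed_biUnion fun A hA =>
    isClosed_of_mem_irreducibleComponents A hA.1).isOpen_compl, ?_, ?_⟩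
  · simp only [Set.mem_compl_iff, Set.mem_iUnion, not_exists]
    exact fun A hA h => hA.2 h
  · intro t' ht' m
    let A := irreducibleComponent t'
    have htA : t ∈ A := by_contra fun h => ht'
      (Set.mem_biUnion ⟨irreducibleComponent_mem_irreducibleComponents t', h⟩ mem_irreducibleComponent)
    have hc := isIrreducible_irreducibleComponent.isConnected.isPreconnected.subset_isClopen (s := A) (hO m)
    exact ⟨fun h => hc ⟨t', mem_irreducibleComponent, h⟩ htA, fun h => hc ⟨t, htA, h⟩ mem_irreducibleComponent⟩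

/-- The sheets met by a clopen subscheme, over a point. -/
theorem isFinite_of_clopen {S Z : Scheme.{u}} [IsLocallyNoetherian S] [ConnectedSpace S]
    (P : Over S) (hP : TwC.IsTwConst TwC.Topology.etale P)
    (z : Z ⟶ P.left) [IsOpenImmersion z] [IsClosedImmersion z]
    (hs : ∃ s : S, Set.Finite ((z ≫ P.hom).base ⁻¹' {s})) : IsFinite (z ≫ P.hom) := by
  let h := z ≫ P.hom
  let A : Set S := {s | Set.Finite (h ⁻¹' {s})}
  -- charts
  have chart : ∀ s : S, ∀ V : S.Opens, s ∈ V → ∃ (T : Scheme.{u}) (g : T ⟶ S), IsAffine T ∧ Flat g ∧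
      IsOpen (Set.range g) ∧ IsOpenMap g ∧ s ∈ Set.range g ∧ Set.range g ⊆ (V : Set S) ∧
      IsOpen (g ⁻¹' A) ∧ IsOpen (g ⁻¹' Aᶜ) ∧ ((∀ s, s ∈ A) → IsFinite (pullback.snd h g)) := by
    intro s V hsV
    obtain ⟨S', f, hf, ⟨s', rfl⟩, I, ⟨e⟩⟩ := hP s
    have : IsLocallyNoetherian S' := LocallyOfFiniteType.isLocallyNoetherian f
    obtain ⟨T, hT, hsT, hTV⟩ := exists_isAffineOpen_mem_and_subset (x := s') (U := f ⁻¹ᵁ V) hsV
    have : IsAffine (T : Scheme.{u}) := hT
    let k := T.ι
    let g := k ≫ f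
    have : Etale g := inferInstance
    have hom : IsOpenMap g := g.isOpenMap
    have : IsLocallyNoetherian (T : Scheme.{u}) := isLocallyNoetherian_of_isOpenImmersion k
    have : IsNoetherian (T : Scheme.{u}) := {}
    have h0 : IsConstLike (pullback.snd P.hom f) I fun m => Sigma.ι (fun _ : I => S') m ≫ e.inv.left :=
      (isConstLike_const S' I).of_iso ((Over.forget S').mapIso e.symm) (Over.w e.inv)
    have h1 := (h0.baseChange k).of_iso (pullbackLeftPullbackSndIso P.hom f k)
      (pullbackLeftPullbackSndIso_hom_snd P.hom f k)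
    let q : pullback h g ⟶ pullback P.hom g :=
      pullback.lift (pullback.fst _ _ ≫ z) (pullback.snd _ _) (by rw [Category.assoc, pullback.condition])
    have sq : IsPullback (pullback.fst h g) q z (pullback.fst P.hom g) := by
      refine IsPullback.of_bot ?_ (pullback.lift_fst _ _ _).symm (IsPullback.of_hasPullback P.hom g)
      rw [pullback.lift_snd]
      exact IsPullback.of_hasPullback h g
    have hqc : IsClosedImmersion q := MorphismProperty.of_isPullback sq ‹_›
    have hqo : IsOpenImmersion q := MorphismProperty.of_isPullback sq ‹_›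
    have hqs : q ≫ pullback.snd P.hom g = pullback.snd h g := pullback.lift_snd _ _ _
    obtain ⟨j, hj⟩ : ∃ j, IsConstLike (pullback.snd P.hom g) I j := ⟨_, h1⟩
    let O : I → Set T := fun m => j m ⁻¹' Set.range q
    have hO : ∀ m, IsClopen (O m) := fun m =>
      (show IsClopen (Set.range q) from ⟨q.isClosedEmbedding.isClosed_range, q.isOpenEmbedding.isOpen_range⟩).preimage
        (j m).continuous
    -- fibres
    have hfib : ∀ t : T, {m | t ∈ O m}.Finite ↔ g t ∈ A := by
      intro t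
      constructor
      · intro hfin
        have hsub : pullback.snd h g ⁻¹' {t} ⊆ q ⁻¹' ((fun m => j m t) '' {m | t ∈ O m}) := by
          intro y hy
          obtain ⟨m, t', ht'⟩ := hj.cover (q y)
          have : t' = t := by
            have e' := congrArg (pullback.snd P.hom g) ht'
            rw [← Scheme.Hom.comp_apply, hj.sect, ← Scheme.Hom.comp_apply, hqs] at e'
            exact e'.trans hy
          subst this
          exact ⟨m, ⟨y, ht'.symm⟩, ht'⟩
        have hfy := ((hfin.image _).preimage q.isOpenEmbedding.injective.injOn).subset hsub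
        refine (hfy.image (pullback.fst h g)).subset fun x hx => ?_
        obtain ⟨w, hw1, hw2⟩ := Scheme.Pullback.exists_preimage_pullback (f := h) (g := g) x t hx
        exact ⟨w, hw2, hw1⟩
      · intro hA
        have : LocallyQuasiFinite g := Groth.Agent.Lib.EtSite.FieldExt.locallyQuasiFinite_of_etale g
        have : QuasiCompact g := inferInstance
        have hfz := hA.preimage' (f := pullback.fst h g) fun b _ => (pullback.fst h g).finite_preimage_singleton b
        refine Set.Finite.of_finite_image ((hfz.image q).subset ?_)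
          (fun m _ m' _ e => hj.disj m m' t t e : Set.InjOn (fun m => j m t) _)
        rintro _ ⟨m, ⟨y, hy⟩, rfl⟩
        refine ⟨y, ?_, hy⟩
        show h (pullback.fst h g y) = g t
        rw [← Scheme.Hom.comp_apply, pullback.condition, ← hqs, Category.assoc, Scheme.Hom.comp_apply, hy,
          ← Scheme.Hom.comp_apply, ← Category.assoc, hj.sect, Category.id_comp]
    have hopen : ∀ (p : Prop → Prop), IsOpen {t : (T : Scheme.{u}) | p ({m | t ∈ O m}.Finite)} := fun p => by
      rw [isOpen_iff_forall_mem_open]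
      intro t ht
      obtain ⟨W, hW, htW, hWeq⟩ := locally_eq_of_noetherianSpace O hO t
      refine ⟨W, fun t' ht' => ?_, hW, htW⟩
      show p _
      rw [show {m | t' ∈ O m} = {m | t ∈ O m} from Set.ext (hWeq t' ht')]
      exact ht
    refine ⟨T, g, inferInstance, inferInstance, hom.isOpen_range, hom, ⟨⟨s', hsT⟩, rfl⟩, ?_, ?_, ?_, fun hall => ?_⟩
    · rintro _ ⟨t, rfl⟩; exact hTV t.2
    · convert hopen id using 1
      exact Set.ext fun t => (hfib t).symm
    · convert hopen Not using 1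
      exact Set.ext fun t => not_congr (hfib t).symm
    · choose W hW htW hWeq using locally_eq_of_noetherianSpace O hO
      obtain ⟨F, hF⟩ := isCompact_univ.elim_finite_subcover W hW fun t _ => Set.mem_iUnion.mpr ⟨t, htW t⟩
      have hMfin : (⋃ t ∈ F, {m | t ∈ O m}).Finite := F.finite_toSet.biUnion fun t _ => (hfib t).mpr (hall _)
      have hcpt : IsCompact (⋃ m ∈ hMfin.toFinset, q ⁻¹' Set.range (j m)) := by
        refine hMfin.toFinset.finite_toSet.isCompact_biUnion fun m _ => ?_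
        exact q.isClosedEmbedding.isCompact_preimage (isCompact_range (j m).continuous)
      have : CompactSpace ↑(pullback h g) := ⟨by
        convert hcpt
        refine (Set.eq_univ_of_forall fun y => ?_).symm
        obtain ⟨m, t', ht'⟩ := hj.cover (q y)
        obtain ⟨t, ht, htt⟩ := Set.mem_iUnion₂.mp (hF (Set.mem_univ t'))
        refine Set.mem_iUnion₂.mpr ⟨m, hMfin.mem_toFinset.mpr (Set.mem_biUnion ht ?_), t', ht'⟩
        exact (hWeq t t' htt m).mp ⟨y, ht'.symm⟩⟩
      have : QuasiCompact (q ≫ pullback.snd P.hom g) := by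
        rw [hqs]; exact (quasiCompact_iff_compactSpace _).mpr inferInstance
      rw [← hqs]
      exact hj.isFinite q
  -- `A` is clopen
  have hA : IsClopen A := by
    refine ⟨isOpen_compl_iff.mp ?_, ?_⟩ <;> rw [isOpen_iff_forall_mem_open] <;> intro s hsA <;>
      obtain ⟨T, g, -, -, -, hom, hmem, -, hA, hAc, -⟩ := chart s ⊤ trivial <;> obtain ⟨t, rfl⟩ := hmem
    · exact ⟨g '' (g ⁻¹' Aᶜ), Set.image_preimage_subset _ _, hom _ hAc, t, hsA, rfl⟩
    · exact ⟨g '' (g ⁻¹' A), Set.image_preimage_subset _ _, hom _ hA, t, hsA, rfl⟩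
  have hall : ∀ s, s ∈ A := fun s => by
    rw [hA.eq_univ hs]; trivial
  refine isFinite_of_local h fun s V hsV => ?_
  obtain ⟨T, g, hT, hg, hop, -, hmem, hle, -, -, hfin⟩ := chart s V hsV
  exact ⟨T, g, hT, hg, hop, hmem, hle, hfin hall⟩

end Groth.Agent.H52.FDesc.TwConstFinite
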